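import Cfsg.Agent.H97.XR.TwFDatX
import Cfsg.Agent.H364.XR.Crit
import Cfsg.Agent.H299.AO.TwoF4

/-!
# S4791 + S4927 [N7]: the row `²F₄(q)` (helper97)

`x0_2F4` : `p + 1 ≤ x0 p M S`; `row_2F4` : the row.
-/

set_option autoImplicit false

open Cfsg Subgroup Cfsg.Agent.H508.KB Cfsg.Agent.H674.XZ Cfsg.Agent.H668.XZ

namespace Cfsg.Agent.H97.XR

universe u

open Cfsg.Agent.H508.XR (NC)

theorem not_comm_of_NC {p : ℕ} {S : Type u} [Group S] [Finite S] [IsSimpleGroup S] (hP : NC p S) :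
    ¬ IsMulCommutative S := by
  intro h
  let : CommGroup S := { (inferInstance : Group S) with mul_comm := h.is_comm.comm }
  have h1 : IsCyclic S := inferInstance
  obtain ⟨P⟩ := (inferInstance : Nonempty (Sylow p S))
  exact hP P inferInstance

variable (p : ℕ) [Fact p.Prime] {M : Ideal AlgInt} (S : Type u) [Group S] [Finite S] [IsSimpleGroup S]

/-- **`p + 1 ≤ x0(²F₄(q))`** if the Sylow `p`-subgroups are not cyclic, `p ≥ 11` -/
theorem x0_2F4 (h11 : 11 ≤ p) (hM : IsPModular p M) (h : Lie.Iso2F4 S) (hP : NC p S) : p + 1 ≤ x0 p M S := by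
  have hna := not_comm_of_NC hP
  obtain ⟨K, _, _, m, -, hK, ⟨f⟩⟩ := h
  have hfin : Finite ↥(Lie.twistedF4 K (2 ^ m)) := inferInstance
  have h1 : Dat2 p ↥(Lie.twistedF4 K (2 ^ m)) := by
    refine TwFDatX.exists_dat2 h11 hK fun P hc => ?_
    have hs : Function.Surjective f.symm.toMonoidHom := f.symm.surjective
    refine hP (P.mapSurjective hs) ?_
    have h2 : IsCyclic ↥((P : Subgroup ↥(Lie.twistedF4 K (2 ^ m))).map f.symm.toMonoidHom) :=
      ((P : Subgroup ↥(Lie.twistedF4 K (2 ^ m))).equivMapOfInjective f.symm.toMonoidHom f.symm.injective).isCyclic.1 hc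
    exact h2
  exact x0_of_dat2 hna h11 hM (h1.congr f.symm)

/-- **The row `²F₄(q)`.** -/
theorem row_2F4 (h11 : 11 ≤ p) (hM : IsPModular p M) (h : Lie.Iso2F4 S) (hP : NC p S) : Row0 p M S :=
  H364.XR.row_of_ab hM (H299.AO.ab_2F4 p S (by omega) h) (x0_2F4 p S h11 hM h hP)

end Cfsg.Agent.H97.XR
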