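import Cfsg.Agent.H97.KB.TwFTor
import Cfsg.Agent.H129.TorusCent

/-!
# Regular elements of prime power order in the torus of `F₄` (helper97, S4791 + S4927)

`r` a prime not dividing the order of the Weyl group `W`, `t` in the torus.

* `stab_eq_one_pow` : if `t` has `r`-power order and no root is trivial on `t`, only `1 ∈ W` fixes `t`;
* `mem_TT_of_reg` : then the centralizer of `t` is the torus;
* `exists_w_reg` : elements conjugating `t` into the torus normalize the torus;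
* `comm_of_pow` : the centralizers of `s` and `s ^ b` are the same, if `s ^ b` has order `r` on the roots and the same roots
  are trivial on `s` and `s ^ b`.
-/

set_option autoImplicit false
set_option linter.unusedSectionVars false

namespace Cfsg.Agent.H97.XR.TwFAlg

open CoxeterSystem Cfsg Cfsg.Lie Cfsg.Lie.ChevalleyDatum
open Cfsg.Agent.ChevalleyStructure Cfsg.Agent.ChevalleyStructure.Elts Cfsg.Agent.ChevalleyStructure.CoxeterGeom
  Cfsg.Agent.ChevalleyStructure.CoxeterGeomTypes Cfsg.Agent.ChevalleyStructure.NPerm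
open Cfsg.Agent.Tits.Roots Cfsg.Agent.Tits.Core Cfsg.Agent.Nodes Cfsg.Agent.Nodes.Reps Cfsg.Agent.Nodes.BNOf
  Cfsg.Agent.Nodes.RGDChev Cfsg.Agent.Nodes.Bruhat Cfsg.Agent.Nodes.SubComb Cfsg.Agent.Nodes.Coroot
open Cfsg.Agent.KFacts.RgdField Cfsg.Agent.KFacts.RgdChevCoord Cfsg.Agent.BpExc.TorCent Cfsg.Agent.BpExc.TorChev
open Cfsg.Agent.GpExc.Field Cfsg.Agent.BpExc.Tow Cfsg.Agent.BpExc.TowChev
  Cfsg.Agent.BpExc.LangFr Cfsg.Agent.LangThm Cfsg.Agent.BpExc Cfsg.Agent.H129.TorusChar Cfsg.Agent.H129.TorusCent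

universe u

variable {D : ChevalleyDatum} {l : ℕ} {M : CoxeterMatrix (Fin l)} (hp : IsType D l M) {k : Type u} [Field k]
  {W : Type*} [Group W] (cs : CoxeterSystem M W)

/-- **The stabiliser of a regular element of `r`-power order is trivial.** -/
theorem stab_eq_one_pow [Finite W] {t : ↥(D.group k)} (ht : t ∈ TT D k) {r b : ℕ} (hr : r.Prime)
    (hrW : ¬ r ∣ Nat.card W) (hpow : ∀ a, IsRoot cs hp.isCartan a → cX hp t a ^ r ^ b = 1)
    (h1 : ∀ a, IsRoot cs hp.isCartan a → cX hp t a ≠ 1) {w : W}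
    (hw : ∀ a, IsRoot cs hp.isCartan a → cX hp t (rep cs hp.isCartan w a) = cX hp t a) : w = 1 := by
  by_contra hne
  obtain ⟨a, ha, hsum⟩ := BpExc.Fix.exists_root_sum_eq_zero (cs := cs) (h := hp.isCartan) hne (orderOf_pos w)
    (pow_orderOf_eq_one w)
  have hmc := isMC_cX hp ht
  have h2 : ∀ i : ℕ, cX hp t (rep cs hp.isCartan (w ^ i) a) = cX hp t a := by
    intro i
    induction i with
    | zero => rw [pow_zero, map_one, Module.End.one_apply]
    | succ i ih => rw [pow_succ', rep_mul_apply, hw _ (ha.act _), ih]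
  have h3 : cX hp t a ^ orderOf w = 1 := by
    have h4 := congrArg (cX hp t) hsum
    rw [hmc.zero, hmc.sum, Finset.prod_congr rfl fun i _ => h2 i, Finset.prod_const, Finset.card_range] at h4
    exact h4
  have h4 : Nat.Coprime (orderOf w) (r ^ b) := by
    refine Nat.Coprime.pow_right _ ?_
    rw [Nat.coprime_comm, hr.coprime_iff_not_dvd]
    exact fun h => hrW (h.trans (orderOf_dvd_natCard w))
  have h5 := Nat.dvd_gcd (orderOf_dvd_of_pow_eq_one h3) (orderOf_dvd_of_pow_eq_one (hpow a ha))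
  rw [h4, Nat.dvd_one, orderOf_eq_one_iff] at h5
  exact h1 a ha h5

/-- **The centralizer of a regular element is the torus.** -/
theorem mem_TT_of_reg [Finite W] (hk : LocFin k) (p : ℕ) [Fact p.Prime] [CharP k p] {t : ↥(D.group k)} (ht : t ∈ TT D k)
    {r b : ℕ} (hr : r.Prime) (hrW : ¬ r ∣ Nat.card W) (hpow : ∀ a, IsRoot cs hp.isCartan a → cX hp t a ^ r ^ b = 1)
    (h1 : ∀ a, IsRoot cs hp.isCartan a → cX hp t a ≠ 1) {c : ↥(D.group k)} (hc : c * t = t * c) : c ∈ TT D k :=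
  mem_TT_of_comm hp cs ht hk p h1 (fun _ hw => stab_eq_one_pow hp cs ht hr hrW hpow h1 hw) hc

/-- **An element conjugating a regular element into the torus acts on the torus as an element of the Weyl group.** -/
theorem exists_w_reg [Finite W] (hk : LocFin k) (p : ℕ) [Fact p.Prime] [CharP k p] {t t' g : ↥(D.group k)}
    (ht : t ∈ TT D k) (ht' : t' ∈ TT D k) {r b : ℕ} (hr : r.Prime) (hrW : ¬ r ∣ Nat.card W)
    (hpow : ∀ a, IsRoot cs hp.isCartan a → cX hp t a ^ r ^ b = 1)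
    (h1 : ∀ a, IsRoot cs hp.isCartan a → cX hp t a ≠ 1) (h : g * t * g⁻¹ = t') :
    ∃ w : W, ∀ s ∈ TT D k, g * s * g⁻¹ ∈ TT D k ∧
      ∀ x, cX hp (g * s * g⁻¹) (rep cs hp.isCartan w x) = cX hp s x := by
  have hN := H129.TorusUntw.nsys_of_locFin hp cs hk p
  have H := tow hp cs hk p
  have C := coordsL hp cs hk p
  rw [← TL_eq hp hk, ← XL_eq hp hk] at C
  have h2 : t ∈ TL (Tj hp (k := k)) := by rw [TL_eq hp hk]; exact ht
  have h3 : t' ∈ TL (Tj hp (k := k)) := by rw [TL_eq hp hk]; exact ht'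
  have hgG : g ∈ GG cs hp.isCartan (TL (Tj hp (k := k))) (XL (Xj hp)) := by
    rw [GG_eq_top hp cs hk]; exact Subgroup.mem_top _
  have h4 : g * t = t' * g := by rw [← h]; group
  obtain ⟨m', -, w, n, hn, hnt, -⟩ := BpExc.Fr.exists_form H C h2 h3 hgG h4
  have hn' : Rp cs hN w n := by
    have key : ∀ (T : Subgroup ↥(D.group k)) (h1 : NSys M T (nc hp k)) (h2 : T = TT D k),
        Rp cs h1 w n → Rp cs hN w n := by
      intro T h1 h2 h3
      subst h2
      exact h3
    exact key _ _ (TL_eq hp hk) hn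
  have h5 : n⁻¹ * g ∈ TT D k := by
    refine mem_TT_of_reg hp cs hk p ht hr hrW hpow h1 ?_
    have h6 : n⁻¹ * g * t = n⁻¹ * (t' * g) := by rw [← h4]; group
    have h7 : t * (n⁻¹ * g) = n⁻¹ * (n * t) * (n⁻¹ * g) := by group
    rw [h6, h7, hnt]
    group
  refine ⟨w, fun s hs => ?_⟩
  have h6 : g * s * g⁻¹ = n * s * n⁻¹ := by
    have h7 : (n⁻¹ * g) * s = s * (n⁻¹ * g) := TT_comm hp (K := k) _ h5 s hs
    calc g * s * g⁻¹ = n * ((n⁻¹ * g) * s) * g⁻¹ := by group
      _ = n * (s * (n⁻¹ * g)) * g⁻¹ := by rw [h7]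
      _ = n * s * n⁻¹ := by group
  rw [h6]
  exact ⟨(Subgroup.mem_normalizer_iff.1 hn'.mem_normalizer s).1 hs, fun x => cX_rp hp cs hk p hn' hs x⟩

/-- **The centralizers of `s` and `s ^ b`.** -/
theorem comm_of_pow [Finite W] (hk : LocFin k) (p : ℕ) [Fact p.Prime] [CharP k p] {s : ↥(D.group k)} (hs : s ∈ TT D k)
    {r b : ℕ} (hr : r.Prime) (hrW : ¬ r ∣ Nat.card W) (hpow : ∀ a, IsRoot cs hp.isCartan a → cX hp s a ^ (b * r) = 1)
    (hS : ∀ a, IsRoot cs hp.isCartan a → cX hp s a ^ b = 1 → cX hp s a = 1) {g : ↥(D.group k)}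
    (hg : g * s ^ b = s ^ b * g) : g * s = s * g := by
  have hN := H129.TorusUntw.nsys_of_locFin hp cs hk p
  have H := tow hp cs hk p
  have C := coordsL hp cs hk p
  rw [← TL_eq hp hk, ← XL_eq hp hk] at C
  have hsb : s ^ b ∈ TT D k := pow_mem hs b
  have hs' : s ∈ TL (Tj hp (k := k)) := by rw [TL_eq hp hk]; exact hs
  have h2 : s ^ b ∈ TL (Tj hp (k := k)) := by rw [TL_eq hp hk]; exact hsb
  have hgG : g ∈ GG cs hp.isCartan (TL (Tj hp (k := k))) (XL (Xj hp)) := by
    rw [GG_eq_top hp cs hk]; exact Subgroup.mem_top _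
  obtain ⟨m, hm, w, n, hn, hnt, rfl⟩ := BpExc.Fr.exists_form H C h2 h2 hgG hg
  have hn' : Rp cs hN w n := by
    have key : ∀ (T : Subgroup ↥(D.group k)) (h1 : NSys M T (nc hp k)) (h2 : T = TT D k),
        Rp cs h1 w n → Rp cs hN w n := by
      intro T h1 h2 h3
      subst h2
      exact h3
    exact key _ _ (TL_eq hp hk) hn
  have hχ : ∀ a, IsRoot cs hp.isCartan a → ch hp a (s ^ b) = cX hp s a ^ b := fun a ha => by
    rw [← cX_root hp cs hsb ha, cX_pow hp hs]
  have hχ1 : ∀ a, IsRoot cs hp.isCartan a → ch hp a s = cX hp s a := fun a ha => (cX_root hp cs hs ha).symm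
  have hSx : Sx cs hp.isCartan (ch hp) (s ^ b) = Sx cs hp.isCartan (ch hp) s := by
    ext a
    constructor
    · rintro ⟨h3, h4⟩
      exact ⟨h3, by rw [hχ1 a h3]; exact hS a h3 (by rw [← hχ a h3]; exact h4)⟩
    · rintro ⟨h3, h4⟩
      exact ⟨h3, by rw [hχ a h3, ← hχ1 a h3, h4, one_pow]⟩
  -- `m` commutes with `s`
  have hm1 : m * s = s * m := by
    have h3 : m ∈ TorCent.MM cs hp.isCartan (XL (Xj hp (k := k))) (ch hp) s := by
      unfold TorCent.MM at hm ⊢
      rw [← hSx]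
      exact hm
    exact Subgroup.mem_centralizer_singleton_iff.1 (MM_le_centralizer C hs' h3)
  -- the stabiliser of `s`
  have hmc := isMC_cX hp hs
  let V : Subgroup W :=
    { carrier := {v | ∀ x, cX hp s (rep cs hp.isCartan v x) = cX hp s x}
      one_mem' := fun x => by rw [map_one, Module.End.one_apply]
      mul_mem' := fun {v v'} h h' x => by rw [rep_mul_apply, h, h']
      inv_mem' := fun {v} h x => by rw [← h, rep_apply_inv] }
  have hV : ∀ a ∈ Sx cs hp.isCartan (ch hp) (s ^ b), ∃ w i, a = rep cs hp.isCartan w (sr i) ∧ rfl' cs w i ∈ V := by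
    intro a ha
    rw [hSx] at ha
    obtain ⟨h3, h4⟩ := ha
    obtain ⟨v, i, hv⟩ := id h3
    refine ⟨v, i, hv, fun x => ?_⟩
    rw [rep_rfl'_eq, ← hv, hmc.sub, hmc.zsmul, ← hχ1 a h3, h4, one_zpow, div_one]
  obtain ⟨v, hv, hpos⟩ := TorCent.exists_adjust (cs := cs) (h := hp.isCartan) (Sx cs hp.isCartan (ch hp) (s ^ b)) V hV w
  have hwb : ∀ x, cX hp (s ^ b) (rep cs hp.isCartan w x) = cX hp (s ^ b) x := by
    intro x
    have h3 := cX_rp hp cs hk p hn' hsb x
    have h4 : n * s ^ b * n⁻¹ = s ^ b := by rw [hnt]; group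
    rwa [h4] at h3
  have hwv : w * v ∈ PP cs hp.isCartan (ch hp) (s ^ b) := by
    refine mem_PP.2 ⟨fun a ha => ?_, fun a ha h0 => hpos a ha h0⟩
    rw [← cX_root hp cs hsb ha, ← cX_root hp cs hsb (ha.act _), rep_mul_apply, hwb, cX_pow hp hs, cX_pow hp hs, hv]
  have hPG : IsPGroup r (PP cs hp.isCartan (ch hp) (s ^ b)) :=
    isPGroup_PP (chAddL hp cs hk p) hsb hr fun a ha => by rw [hχ a ha, ← pow_mul]; exact hpow a ha
  have h1 : w * v = 1 := by
    have hrf : Fact r.Prime := ⟨hr⟩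
    obtain ⟨n, hn⟩ := (IsPGroup.iff_card (p := r)).1 hPG
    have h3 : Nat.card (PP cs hp.isCartan (ch hp) (s ^ b)) ∣ Nat.card W := Subgroup.card_subgroup_dvd_card _
    rw [hn] at h3
    have h4 : n = 0 := by
      by_contra h5
      exact hrW ((dvd_pow_self r h5).trans h3)
    rw [h4, pow_zero] at hn
    have h5 := Subgroup.card_eq_one.1 hn
    rw [h5] at hwv
    exact Subgroup.mem_bot.1 hwv
  have hwV : w ∈ V := by
    rw [eq_inv_of_mul_eq_one_left h1]
    exact inv_mem hv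
  have hns : n * s * n⁻¹ = s := by
    have h3 : n * s * n⁻¹ ∈ TT D k := (Subgroup.mem_normalizer_iff.1 hn'.mem_normalizer s).1 hs
    refine cX_inj hp h3 hs fun i => ?_
    have h8 : sr i = rep cs hp.isCartan w (rep cs hp.isCartan w⁻¹ (sr i)) := by
      rw [← Module.End.mul_apply, ← map_mul, mul_inv_cancel, map_one, Module.End.one_apply]
    rw [h8, cX_rp hp cs hk p hn' hs, hwV]
  have h6 : n * s = s * n := by
    calc n * s = n * s * n⁻¹ * n := by group
      _ = s * n := by rw [hns]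
  rw [mul_assoc, h6, ← mul_assoc, hm1, mul_assoc]

end Cfsg.Agent.H97.XR.TwFAlg
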