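import Mathlib

/-!
# Computations in the root system of type `F₄` (helper97, S4791 + S4927)

The roots as quadruples; `chk` : the checks for the isogeny `ψ` (with `ψ² = t ψ - n`) of a maximal torus of `²F₄(q)`.
-/

set_option autoImplicit false

namespace Cfsg.Agent.H97.XR.TwFChk

abbrev Q4 := ℤ × ℤ × ℤ × ℤ

/-- the roots -/
def RL : List Q4 := [(0,0,0,1), (0,0,1,0), (0,0,1,1), (0,1,0,0), (0,1,1,0), (0,1,1,1), (0,2,1,0), (0,2,1,1), (0,2,2,1),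
  (1,0,0,0), (1,1,0,0), (1,1,1,0), (1,1,1,1), (1,2,1,0), (1,2,1,1), (1,2,2,1), (1,3,2,1), (2,2,1,0), (2,2,1,1), (2,2,2,1),
  (2,3,2,1), (2,4,2,1), (2,4,3,1), (2,4,3,2), (0,0,0,-1), (0,0,-1,0), (0,0,-1,-1), (0,-1,0,0), (0,-1,-1,0), (0,-1,-1,-1),
  (0,-2,-1,0), (0,-2,-1,-1), (0,-2,-2,-1), (-1,0,0,0), (-1,-1,0,0), (-1,-1,-1,0), (-1,-1,-1,-1), (-1,-2,-1,0),
  (-1,-2,-1,-1), (-1,-2,-2,-1), (-1,-3,-2,-1), (-2,-2,-1,0), (-2,-2,-1,-1), (-2,-2,-2,-1), (-2,-3,-2,-1), (-2,-4,-2,-1),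
  (-2,-4,-3,-1), (-2,-4,-3,-2)]

def eqb (a b : Q4) : Bool :=
  decide (a.1 = b.1) && (decide (a.2.1 = b.2.1) && (decide (a.2.2.1 = b.2.2.1) && decide (a.2.2.2 = b.2.2.2)))

theorem eqb_iff {a b : Q4} : eqb a b = true ↔ a = b := by
  obtain ⟨a1, a2, a3, a4⟩ := a
  obtain ⟨b1, b2, b3, b4⟩ := b
  simp [eqb]

/-- the norm -/
def nm (q : Q4) : ℤ :=
  q.1 * (q.1 - q.2.1) + (q.2.1 * q.2.1 + 2 * (q.2.2.1 * (q.2.2.1 - q.2.1 - q.2.2.2) + q.2.2.2 * q.2.2.2))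

def nb (q : Q4) : Bool := decide (nm q = 1) || decide (nm q = 2)

theorem nb_RL : (RL.all fun q => nb q) = true := by decide +kernel

def isR (q : Q4) : Bool := nb q && RL.any (eqb q)

theorem isR_iff {q : Q4} : isR q = true ↔ q ∈ RL := by
  unfold isR
  rw [Bool.and_eq_true, List.any_eq_true]
  constructor
  · rintro ⟨-, x, hx, h⟩
    rw [eqb_iff.1 h]
    exact hx
  · intro h
    exact ⟨List.all_eq_true.1 nb_RL q h, q, h, eqb_iff.2 rfl⟩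

def dt (c v : Q4) : ℤ := v.1 * c.1 + (v.2.1 * c.2.1 + (v.2.2.1 * c.2.2.1 + v.2.2.2 * c.2.2.2))

def ad (a b : Q4) : Q4 := (a.1 + b.1, a.2.1 + b.2.1, a.2.2.1 + b.2.2.1, a.2.2.2 + b.2.2.2)

def sb (a b : Q4) : Q4 := (a.1 - b.1, a.2.1 - b.2.1, a.2.2.1 - b.2.2.1, a.2.2.2 - b.2.2.2)

def ml (c : ℤ) (a : Q4) : Q4 := (c * a.1, c * a.2.1, c * a.2.2.1, c * a.2.2.2)

def hf (a : Q4) : Q4 := (a.1 / 2, a.2.1 / 2, a.2.2.1 / 2, a.2.2.2 / 2)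

/-- `ψ`, with the images of the simple roots -/
def ps (P0 P1 P2 P3 : Q4) (v : Q4) : Q4 := ad (ml v.1 P0) (ad (ml v.2.1 P1) (ad (ml v.2.2.1 P2) (ml v.2.2.2 P3)))

/-- the roots of norm `2` -/
def ckL : Bool := RL.all fun q => (decide (nm q = 1) && RL.all fun s => !(nb (ad q s)) || !(nb (ad q (ml 2 s)))) ||
    (decide (nm q = 2) && RL.any fun s => isR (ad q s) && isR (ad q (ml 2 s)))

theorem ckL_true : ckL = true := by decide +kernel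

/-- the images of the roots under `ψ` -/
def ckT (P0 P1 P2 P3 : Q4) : Bool :=
  RL.all fun q => (decide (nm q = 1) && isR (ps P0 P1 P2 P3 q) && decide (nm (ps P0 P1 P2 P3 q) = 2)) ||
    (decide (nm q = 2) && isR (hf (ps P0 P1 P2 P3 q)) && decide (nm (hf (ps P0 P1 P2 P3 q)) = 1) &&
      eqb (ps P0 P1 P2 P3 q) (ml 2 (hf (ps P0 P1 P2 P3 q))))

/-- the only prime divisors of the norm are `2`, `3` -/
def cb (t n a b c d : ℤ) : Bool :=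
  192 % (Nat.gcd (Nat.gcd (a * a + t * a * b + n * b * b).natAbs (c * c + t * c * d + n * d * d).natAbs)
    (Nat.gcd (b * c - a * d).natAbs (a * c + t * a * d + n * b * d).natAbs)) == 0

def cbq (t n : ℤ) (A B C D q : Q4) : Bool := cb t n (dt A q) (dt B q) (dt C q) (dt D q)

/-- the roots are not trivial -/
def ck1 (t n : ℤ) (A B C D : Q4) : Bool := RL.all fun q => cbq t n A B C D q

/-- the roots of the same length are different -/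
def ck2 (t n : ℤ) (A B C D : Q4) : Bool :=
  RL.all fun q => RL.all fun s => !(decide (nm q = nm s)) || (eqb q s || cbq t n A B C D (sb q s))

/-- the first functional -/
def ck3 (t n : ℤ) (A B : Q4) : Bool :=
  RL.all fun q => (decide (dt A q = 0) && decide (dt B q = 0)) ||
    (192 % (dt A q * dt A q + t * dt A q * dt B q + n * dt B q * dt B q).natAbs == 0)

/-- the pairs `q`, `ψ q` -/
def cps (P0 P1 P2 P3 : Q4) : List (Q4 × Q4) := RL.map fun q => (q, ps P0 P1 P2 P3 q)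

/-- the linear combinations `a α + b ψ α + c β + d ψ β` -/
def lc (P0 P1 P2 P3 : Q4) (x y : Q4) (c : Q4) : Q4 :=
  ad (ml c.1 x) (ad (ml c.2.1 (ps P0 P1 P2 P3 x)) (ad (ml c.2.2.1 y) (ml c.2.2.2 (ps P0 P1 P2 P3 y))))

def α : Q4 := (0, 1, 0, 0)

def β : Q4 := (1, 1, 1, 1)

/-- the linear combinations are roots -/
def ckC (P0 P1 P2 P3 : Q4) (cmb : List Q4) : Bool := cmb.all fun c => isR (lc P0 P1 P2 P3 α β c)

def cnd (cmb : List Q4) (x y : Q4 × Q4) : Bool :=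
  cmb.all fun c => isR (ad (ml c.1 x.1) (ad (ml c.2.1 x.2) (ad (ml c.2.2.1 y.1) (ml c.2.2.2 y.2))))

/-- the possible pairs -/
def prs (P0 P1 P2 P3 : Q4) (cmb : List Q4) : List (Q4 × Q4) :=
  (cps P0 P1 P2 P3).flatMap fun x => ((cps P0 P1 P2 P3).filter fun y => cnd cmb x y).map fun y => (x.1, y.1)

def ckN (P0 P1 P2 P3 : Q4) (cmb : List Q4) : Bool := decide ((prs P0 P1 P2 P3 cmb).length ≤ 96)

/-- the simple roots are linear combinations -/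
def ckU (P0 P1 P2 P3 : Q4) (U0 U1 U2 U3 : Q4) : Bool :=
  eqb (lc P0 P1 P2 P3 α β U0) (1, 0, 0, 0) && eqb (lc P0 P1 P2 P3 α β U1) (0, 1, 0, 0) &&
  eqb (lc P0 P1 P2 P3 α β U2) (0, 0, 1, 0) && eqb (lc P0 P1 P2 P3 α β U3) (0, 0, 0, 1)

theorem ckT_1 : ckT (0, 0, 0, 1) (0, 0, 1, 0) (0, 2, 0, 0) (2, 0, 0, 0) = true := by decide +kernel
theorem ckT_2 : ckT (0, 0, 0, -1) (2, 4, 3, 2) (-4, -6, -4, -2) (2, 0, 0, 0) = true := by decide +kernel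
theorem ckT_3 : ckT (2, 2, 2, 1) (0, 0, -1, 0) (0, 2, 2, 0) (-2, -4, -2, 0) = true := by decide +kernel
theorem ckT_4 : ckT (-2, -2, -2, -1) (0, 0, 1, 0) (0, -2, -2, 0) (2, 4, 2, 0) = true := by decide +kernel

theorem ckC_1 : ckC (0, 0, 0, 1) (0, 0, 1, 0) (0, 2, 0, 0) (2, 0, 0, 0) [(-2, -1, -2, 1)] = true := by decide +kernel
theorem ckC_2 : ckC (0, 0, 0, -1) (2, 4, 3, 2) (-4, -6, -4, -2) (2, 0, 0, 0) [(-2, -1, 0, -2)] = true := by decide +kernel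
theorem ckC_3 : ckC (2, 2, 2, 1) (0, 0, -1, 0) (0, 2, 2, 0) (-2, -4, -2, 0)
    [(-2, 0, 0, -1), (-2, 1, -2, 1), (-2, 1, -2, 0)] = true := by decide +kernel
theorem ckC_4 : ckC (-2, -2, -2, -1) (0, 0, 1, 0) (0, -2, -2, 0) (2, 4, 2, 0)
    [(-2, -2, -2, -1), (-2, -1, -2, -1), (-2, -1, -2, 0)] = true := by decide +kernel

theorem ckN_1 : ckN (0, 0, 0, 1) (0, 0, 1, 0) (0, 2, 0, 0) (2, 0, 0, 0) [(-2, -1, -2, 1)] = true := by decide +kernel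
theorem ckN_2 : ckN (0, 0, 0, -1) (2, 4, 3, 2) (-4, -6, -4, -2) (2, 0, 0, 0) [(-2, -1, 0, -2)] = true := by decide +kernel
theorem ckN_3 : ckN (2, 2, 2, 1) (0, 0, -1, 0) (0, 2, 2, 0) (-2, -4, -2, 0)
    [(-2, 0, 0, -1), (-2, 1, -2, 1), (-2, 1, -2, 0)] = true := by decide +kernel
theorem ckN_4 : ckN (-2, -2, -2, -1) (0, 0, 1, 0) (0, -2, -2, 0) (2, 4, 2, 0)
    [(-2, -2, -2, -1), (-2, -1, -2, -1), (-2, -1, -2, 0)] = true := by decide +kernel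

theorem ckU_1 : ckU (0, 0, 0, 1) (0, 0, 1, 0) (0, 2, 0, 0) (2, 0, 0, 0) (-1, 0, -1, 1) (1, 0, 0, 0) (0, 1, 0, 0)
    (0, -1, 2, -1) = true := by decide +kernel
theorem ckU_2 : ckU (0, 0, 0, -1) (2, 4, 3, 2) (-4, -6, -4, -2) (2, 0, 0, 0) (1, 0, 1, 1) (1, 0, 0, 0) (-2, 1, -2, 0)
    (0, -1, 2, -1) = true := by decide +kernel
theorem ckU_3 : ckU (2, 2, 2, 1) (0, 0, -1, 0) (0, 2, 2, 0) (-2, -4, -2, 0) (-1, 0, 1, -1) (1, 0, 0, 0) (0, -1, 0, 0)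
    (0, 1, 0, 1) = true := by decide +kernel
theorem ckU_4 : ckU (-2, -2, -2, -1) (0, 0, 1, 0) (0, -2, -2, 0) (2, 4, 2, 0) (-1, 0, 1, 1) (1, 0, 0, 0) (0, 1, 0, 0)
    (0, -1, 0, -1) = true := by decide +kernel

theorem ck1_1 : ck1 0 (-2) (0, 0, -2, 4) (2, -1, 0, 0) (0, 2, -2, 0) (0, -1, 2, 0) = true := by decide +kernel
theorem ck1_2 : ck1 0 2 (0, 0, -2, 4) (2, -1, 0, 0) (0, 2, -2, 0) (0, -1, 2, 0) = true := by decide +kernel
theorem ck1_3 : ck1 2 2 (2, 0, 0, -2) (-1, 0, 0, 2) (0, -2, 4, -2) (-1, 2, -2, 0) = true := by decide +kernel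

theorem ck2_1 : ck2 0 (-2) (0, 0, -2, 4) (2, -1, 0, 0) (0, 2, -2, 0) (0, -1, 2, 0) = true := by decide +kernel
theorem ck2_2 : ck2 0 2 (0, 0, -2, 4) (2, -1, 0, 0) (0, 2, -2, 0) (0, -1, 2, 0) = true := by decide +kernel
theorem ck2_3 : ck2 2 2 (2, 0, 0, -2) (-1, 0, 0, 2) (0, -2, 4, -2) (-1, 2, -2, 0) = true := by decide +kernel

theorem ck3_1 : ck3 0 (-2) (0, 0, -2, 4) (2, -1, 0, 0) = true := by decide +kernel
theorem ck3_2 : ck3 0 2 (0, 0, -2, 4) (2, -1, 0, 0) = true := by decide +kernel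
theorem ck3_3 : ck3 2 2 (2, 0, 0, -2) (-1, 0, 0, 2) = true := by decide +kernel

end Cfsg.Agent.H97.XR.TwFChk
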