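import Mathlib
import Cfsg.Agent.H97.KB.TwFAr

/-!
# Counting regular elements in a group `⟨x⟩ × ⟨y⟩`, `x`, `y` of order `p ^ b` (helper97, S4791 + S4927)
-/

set_option autoImplicit false
set_option linter.unusedSectionVars false

namespace Cfsg.Agent.H97.XR.TwFCount

open Subgroup

theorem card_bad {p N b : ℕ} (hp : p.Prime) (hN : N = p ^ b) (a c : ℤ) (h : ¬ ((p : ℤ) ∣ a ∧ (p : ℤ) ∣ c)) :
    (Finset.univ.filter fun z : Fin N × Fin N => (N : ℤ) ∣ ((z.1 : ℕ) : ℤ) * a + ((z.2 : ℕ) : ℤ) * c).card ≤ N := by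
  classical
  have key : ∀ a c : ℤ, ¬ (p : ℤ) ∣ c → ∀ i j j' : Fin N, (N : ℤ) ∣ ((i : ℕ) : ℤ) * a + ((j : ℕ) : ℤ) * c →
      (N : ℤ) ∣ ((i : ℕ) : ℤ) * a + ((j' : ℕ) : ℤ) * c → j = j' := by
    intro a c hc i j j' h1 h2
    have h3 := dvd_sub h1 h2
    have e : ((i : ℕ) : ℤ) * a + ((j : ℕ) : ℤ) * c - (((i : ℕ) : ℤ) * a + ((j' : ℕ) : ℤ) * c) =
      (((j : ℕ) : ℤ) - ((j' : ℕ) : ℤ)) * c := by ring
    rw [e] at h3
    have h4 : IsCoprime (N : ℤ) c := by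
      rw [hN]
      push_cast
      refine IsCoprime.pow_left ?_
      rw [Int.isCoprime_iff_gcd_eq_one, Int.gcd_eq_natAbs, Int.natAbs_natCast]
      refine (Nat.Prime.coprime_iff_not_dvd hp).2 fun h5 => hc ?_
      exact Int.natCast_dvd.2 h5
    have h5 := h4.dvd_of_dvd_mul_right h3
    have h6 : ((j : ℕ) : ℤ) - ((j' : ℕ) : ℤ) = 0 := by
      refine Int.eq_zero_of_abs_lt_dvd h5 ?_
      have h7 := j.2
      have h8 := j'.2
      rw [abs_lt]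
      omega
    exact Fin.ext (by omega)
  by_cases hc : (p : ℤ) ∣ c
  · have ha : ¬ (p : ℤ) ∣ a := fun ha => h ⟨ha, hc⟩
    have h1 := Finset.card_le_card_of_injOn (s := Finset.univ.filter fun z : Fin N × Fin N =>
      (N : ℤ) ∣ ((z.1 : ℕ) : ℤ) * a + ((z.2 : ℕ) : ℤ) * c) (t := (Finset.univ : Finset (Fin N))) (fun z => z.2)
      (fun _ _ => Finset.mem_coe.2 (Finset.mem_univ _)) (by
        rintro ⟨i, j⟩ hz ⟨i', j'⟩ hz' (h2 : j = j')
        subst h2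
        have h3 := (Finset.mem_filter.1 (Finset.mem_coe.1 hz)).2
        have h4 := (Finset.mem_filter.1 (Finset.mem_coe.1 hz')).2
        have h5 : i = i' := key c a ha j i i' (by rw [add_comm]; exact h3) (by rw [add_comm]; exact h4)
        rw [h5])
    rwa [Finset.card_univ, Fintype.card_fin] at h1
  · have h1 := Finset.card_le_card_of_injOn (s := Finset.univ.filter fun z : Fin N × Fin N =>
      (N : ℤ) ∣ ((z.1 : ℕ) : ℤ) * a + ((z.2 : ℕ) : ℤ) * c) (t := (Finset.univ : Finset (Fin N))) (fun z => z.1)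
      (fun _ _ => Finset.mem_coe.2 (Finset.mem_univ _)) (by
        rintro ⟨i, j⟩ hz ⟨i', j'⟩ hz' (h2 : i = i')
        subst h2
        have h3 := (Finset.mem_filter.1 (Finset.mem_coe.1 hz)).2
        have h4 := (Finset.mem_filter.1 (Finset.mem_coe.1 hz')).2
        have h5 : j = j' := key a c hc i j j' h3 h4
        rw [h5])
    rwa [Finset.card_univ, Fintype.card_fin] at h1

/-- the good pairs -/
theorem card_good {p N b : ℕ} (hp : p.Prime) (hN : N = p ^ b) {n : ℕ} (a c : Fin n → ℤ)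
    (h : ∀ s, ¬ ((p : ℤ) ∣ a s ∧ (p : ℤ) ∣ c s)) :
    N ^ 2 ≤ (Finset.univ.filter fun z : Fin N × Fin N =>
      ∀ s, ¬ (N : ℤ) ∣ ((z.1 : ℕ) : ℤ) * a s + ((z.2 : ℕ) : ℤ) * c s).card + n * N := by
  classical
  have h1 : (Finset.univ : Finset (Fin N × Fin N)) ⊆ (Finset.univ.filter fun z : Fin N × Fin N =>
      ∀ s, ¬ (N : ℤ) ∣ ((z.1 : ℕ) : ℤ) * a s + ((z.2 : ℕ) : ℤ) * c s) ∪ (Finset.univ : Finset (Fin n)).biUnion fun s =>
        Finset.univ.filter fun z : Fin N × Fin N => (N : ℤ) ∣ ((z.1 : ℕ) : ℤ) * a s + ((z.2 : ℕ) : ℤ) * c s := by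
    intro z _
    rw [Finset.mem_union]
    by_cases hz : ∀ s, ¬ (N : ℤ) ∣ ((z.1 : ℕ) : ℤ) * a s + ((z.2 : ℕ) : ℤ) * c s
    · exact Or.inl (Finset.mem_filter.2 ⟨Finset.mem_univ _, hz⟩)
    · right
      push Not at hz
      obtain ⟨s, hs⟩ := hz
      exact Finset.mem_biUnion.2 ⟨s, Finset.mem_univ _, Finset.mem_filter.2 ⟨Finset.mem_univ _, hs⟩⟩
  have h2 := (Finset.card_le_card h1).trans (Finset.card_union_le _ _)
  have h3 := Finset.card_biUnion_le_card_mul (Finset.univ : Finset (Fin n)) (fun s => Finset.univ.filter fun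
    z : Fin N × Fin N => (N : ℤ) ∣ ((z.1 : ℕ) : ℤ) * a s + ((z.2 : ℕ) : ℤ) * c s) N fun s _ => card_bad hp hN _ _ (h s)
  rw [Finset.card_univ, Fintype.card_fin] at h3
  rw [Finset.card_univ, Fintype.card_prod, Fintype.card_fin, ← sq] at h2
  omega

variable {G : Type*} [Group G]

theorem pow_injective {N : ℕ} {x y : G} (hxy : Commute x y) (hx : orderOf x = N) (hy : orderOf y = N)
    (hd : zpowers x ⊓ zpowers y = ⊥) :
    Function.Injective fun z : Fin N × Fin N => x ^ (z.1 : ℕ) * y ^ (z.2 : ℕ) := by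
  rintro ⟨i, j⟩ ⟨i', j'⟩ (h : x ^ (i : ℕ) * y ^ (j : ℕ) = x ^ (i' : ℕ) * y ^ (j' : ℕ))
  have h1 : (x ^ (i' : ℕ))⁻¹ * x ^ (i : ℕ) = y ^ (j' : ℕ) * (y ^ (j : ℕ))⁻¹ := by
    calc (x ^ (i' : ℕ))⁻¹ * x ^ (i : ℕ) = (x ^ (i' : ℕ))⁻¹ * (x ^ (i : ℕ) * y ^ (j : ℕ)) * (y ^ (j : ℕ))⁻¹ := by group
      _ = _ := by rw [h]; group
  have h2 : (x ^ (i' : ℕ))⁻¹ * x ^ (i : ℕ) ∈ zpowers x ⊓ zpowers y := by
    refine Subgroup.mem_inf.2 ⟨(zpowers x).mul_mem ((zpowers x).inv_mem (npow_mem_zpowers x _)) (npow_mem_zpowers x _), ?_⟩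
    rw [h1]
    exact (zpowers y).mul_mem (npow_mem_zpowers y _) ((zpowers y).inv_mem (npow_mem_zpowers y _))
  rw [hd, mem_bot] at h2
  have h3 : x ^ (i : ℕ) = x ^ (i' : ℕ) := (inv_mul_eq_one.1 h2).symm
  rw [h3] at h
  have h4 : y ^ (j : ℕ) = y ^ (j' : ℕ) := mul_left_cancel h
  have h5 : (i : ℕ) = i' := pow_injOn_Iio_orderOf (by rw [hx]; exact i.2) (by rw [hx]; exact i'.2) h3
  have h6 : (j : ℕ) = j' := pow_injOn_Iio_orderOf (by rw [hy]; exact j.2) (by rw [hy]; exact j'.2) h4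
  rw [Fin.ext h5, Fin.ext h6]

/-- **The regular elements.** -/
theorem exists_reg {p N b : ℕ} (hp : p.Prime) (hN : N = p ^ b) {n : ℕ} (a c : Fin n → ℤ)
    (h : ∀ s, ¬ ((p : ℤ) ∣ a s ∧ (p : ℤ) ∣ c s)) {x y : G} (hxy : Commute x y) (hx : orderOf x = N) (hy : orderOf y = N)
    (hd : zpowers x ⊓ zpowers y = ⊥) :
    ∃ R : Finset G, (∀ z ∈ R, ∃ i j : ℕ, z = x ^ i * y ^ j ∧ ∀ s, ¬ (N : ℤ) ∣ (i : ℤ) * a s + (j : ℤ) * c s) ∧
      N ^ 2 ≤ R.card + n * N := by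
  classical
  refine ⟨(Finset.univ.filter fun z : Fin N × Fin N => ∀ s, ¬ (N : ℤ) ∣ ((z.1 : ℕ) : ℤ) * a s + ((z.2 : ℕ) : ℤ) * c s).map
    ⟨_, pow_injective hxy hx hy hd⟩, ?_, ?_⟩
  · intro z hz
    obtain ⟨q, hq, rfl⟩ := Finset.mem_map.1 hz
    exact ⟨q.1, q.2, rfl, (Finset.mem_filter.1 hq).2⟩
  · rw [Finset.card_map]
    exact card_good hp hN a c h

/-- classes modulo a subgroup -/
theorem card_le_of_fin [Finite G] {A B : Subgroup G} {n : ℕ} (F : G → Fin n)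
    (hF : ∀ g h : G, g ∈ A → h ∈ A → F g = F h → g⁻¹ * h ∈ B) : Nat.card A ≤ n * Nat.card B := by
  classical
  let rep : Fin n → G := fun i => if h : ∃ g, g ∈ A ∧ F g = i then h.choose else 1
  have hrep : ∀ g ∈ A, rep (F g) ∈ A ∧ F (rep (F g)) = F g := by
    intro g hg
    have h : ∃ g', g' ∈ A ∧ F g' = F g := ⟨g, hg, rfl⟩
    show (if h : ∃ g', g' ∈ A ∧ F g' = F g then h.choose else 1) ∈ A ∧ F (if h : ∃ g', g' ∈ A ∧ F g' = F g then h.choose else 1) = F g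
    rw [dif_pos h]
    exact h.choose_spec
  have h1 : Nat.card A ≤ Nat.card (Fin n × B) := by
    refine Nat.card_le_card_of_injective (fun g : A => ((F g, ⟨(rep (F g))⁻¹ * g,
      hF _ _ (hrep g g.2).1 g.2 (hrep g g.2).2⟩) : Fin n × B)) ?_
    intro g g' h
    have h2 : F g = F g' := congrArg Prod.fst h
    have h3 : (rep (F g))⁻¹ * (g : G) = (rep (F g'))⁻¹ * (g' : G) := congrArg Subtype.val (congrArg Prod.snd h)
    rw [h2] at h3
    exact Subtype.ext (mul_left_cancel h3)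
  rwa [Nat.card_prod, Nat.card_eq_fintype_card (α := Fin n), Fintype.card_fin] at h1

/-- the arithmetic -/
theorem height_arith {p N b K C R : ℕ} (h11 : 11 ≤ p) (hb : 2 ≤ b) (hN : N = p ^ b) (hC : 0 < C) (hK : K ≤ 96 * C)
    (hR : N ^ 2 ≤ R + 24 * N) : K * N ^ 2 < p ^ 2 * C * R := by
  have h1 : p ^ 2 ≤ N := by rw [hN]; exact Nat.pow_le_pow_right (by omega) hb
  have h2 : 121 ≤ p ^ 2 := by nlinarith
  obtain ⟨r, hr⟩ : ∃ r, N = 24 + r := ⟨N - 24, by omega⟩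
  have h3 : N * r ≤ R := by
    have h4 : N ^ 2 = N * r + 24 * N := by rw [sq]; nth_rewrite 2 [hr]; ring
    omega
  have h5 : 96 * N ^ 2 < p ^ 2 * (N * r) := by
    have h6 : 96 * N < p ^ 2 * r := by
      obtain ⟨q, hq⟩ : ∃ q, p ^ 2 = 121 + q := ⟨p ^ 2 - 121, by omega⟩
      rw [hr, hq]
      have h7 : 97 + q ≤ r := by omega
      nlinarith
    have h8 : 0 < N := by omega
    calc 96 * N ^ 2 = 96 * N * N := by ring
      _ < p ^ 2 * r * N := Nat.mul_lt_mul_of_pos_right h6 h8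
      _ = p ^ 2 * (N * r) := by ring
  calc K * N ^ 2 ≤ 96 * C * N ^ 2 := Nat.mul_le_mul_right _ hK
    _ = C * (96 * N ^ 2) := by ring
    _ < C * (p ^ 2 * (N * r)) := Nat.mul_lt_mul_of_pos_left h5 hC
    _ ≤ C * (p ^ 2 * R) := Nat.mul_le_mul_left _ (Nat.mul_le_mul_left _ h3)
    _ = p ^ 2 * C * R := by ring

end Cfsg.Agent.H97.XR.TwFCount
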