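import Cfsg.Agent.H97.XR.TwFCount
import Cfsg.Agent.H76.KJ.Basic
import Cfsg.Agent.H603.AP.Height
import Cfsg.Agent.H832.KB.RankTwo

/-!
# S4791 + S4927: Sylow `p`-subgroups of rank 2, data for the height theorem (helper97)

`Dat2 p G` : the Sylow `p`-subgroup is `⟨x⟩ × ⟨y⟩`, `x`, `y` of order `p ^ b`; the element of order `p` in `⟨x⟩` has the same
centralizer as `x`; fusion of it; an element `c` of the centralizer; at most 96 classes of the normalizer modulo the
centralizer and at least `p ^ (2 b) - 24 p ^ b` regular elements.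

`x0_of_dat2` : `p + 1 ≤ x0 p M S` for simple `S`.
-/

set_option autoImplicit false
set_option linter.unusedSectionVars false

open Cfsg Subgroup

namespace Cfsg.Agent.H97.XR

universe u v

open Cfsg.Agent.H674.XZ Cfsg.Agent.H508.XR

/-- the data of a Sylow subgroup of rank 2 -/
def Dat2 (p : ℕ) (G : Type u) [Group G] : Prop :=
  ∃ (P : Sylow p G) (x y c : G) (e j b : ℕ), (P : Subgroup G) = closure {x, y} ∧ Commute x y ∧ b ≠ 0 ∧
    orderOf x = p ^ b ∧ orderOf y = p ^ b ∧ zpowers x ⊓ zpowers y = ⊥ ∧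
    (∀ (g : G) (i : ℕ), g * x ^ p ^ (b - 1) * g⁻¹ = (x ^ p ^ (b - 1)) ^ i → (i : ZMod p) ^ e = 1) ∧
    Commute c x ∧ c * y * c⁻¹ = y ^ j ∧ p ≤ (p - 1) / e * orderOf (j : ZMod p) + 1 ∧
    (∀ g : G, g * x ^ p ^ (b - 1) = x ^ p ^ (b - 1) * g → g * x = x * g) ∧
    (2 ≤ b → ∃ F : G → Fin 96, ∀ g h : G, g ∈ normalizer ((P : Subgroup G) : Set G) →
      h ∈ normalizer ((P : Subgroup G) : Set G) → F g = F h → g⁻¹ * h ∈ centralizer ((P : Subgroup G) : Set G)) ∧
    ∃ R : Finset G, (∀ z ∈ R, z ∈ (P : Subgroup G) ∧ ∀ g, g * z = z * g → g ∈ centralizer ((P : Subgroup G) : Set G)) ∧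
      (p ^ b) ^ 2 ≤ R.card + 24 * p ^ b

variable {p : ℕ} [hp : Fact p.Prime]

theorem Dat2.congr {G : Type u} {H : Type v} [Group G] [Group H] [Finite H] (f : G ≃* H) (D : Dat2 p G) : Dat2 p H := by
  obtain ⟨P, x, y, c, e, j, b, h1, h2, h3, h4, h5, h6, h7, h8, h9, h10, h11, h12, R, h13, h14⟩ := D
  have hz : ∀ a : G, zpowers (f a) = (zpowers a).map f.toMonoidHom := fun a => by
    rw [MonoidHom.map_zpowers]; rfl
  have hfin : Finite G := Finite.of_equiv _ f.symm.toEquiv
  have hs : Function.Surjective f.toMonoidHom := f.surjective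
  let Q : Sylow p H := P.mapSurjective hs
  have hQ : (Q : Subgroup H) = (P : Subgroup G).map f.toMonoidHom := Sylow.coe_mapSurjective _ _
  have hmem : ∀ a : G, f a ∈ (Q : Subgroup H) ↔ a ∈ (P : Subgroup G) := by
    intro a
    rw [hQ]
    exact Subgroup.mem_map_iff_mem f.injective
  have hmem' : ∀ a : H, a ∈ (Q : Subgroup H) ↔ f.symm a ∈ (P : Subgroup G) := by
    intro a
    rw [← hmem, f.apply_symm_apply]
  have hcen : ∀ g : H, f.symm g ∈ centralizer ((P : Subgroup G) : Set G) → g ∈ centralizer ((Q : Subgroup H) : Set H) := by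
    intro g hg
    rw [mem_centralizer_iff] at hg ⊢
    intro z hz
    have h := hg (f.symm z) ((hmem' z).1 hz)
    apply f.symm.injective
    rw [map_mul, map_mul, h]
  have hnor : ∀ g : H, g ∈ normalizer ((Q : Subgroup H) : Set H) → f.symm g ∈ normalizer ((P : Subgroup G) : Set G) := by
    intro g hg
    rw [mem_normalizer_iff] at hg ⊢
    intro z
    have h := hg (f z)
    rw [hmem] at h
    rw [h, hmem', map_mul, map_mul, map_inv, f.symm_apply_apply]
  refine ⟨Q, f x, f y, f c, e, j, b, ?_, h2.map f, h3, ?_, ?_, ?_, ?_, h8.map f, ?_, h10, ?_, ?_, R.map f.toEquiv.toEmbedding,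
    ?_, ?_⟩
  · rw [hQ, h1, MonoidHom.map_closure, Set.image_pair]
    rfl
  · rw [← h4]; exact f.orderOf_eq x
  · rw [← h5]; exact f.orderOf_eq y
  · rw [hz, hz, ← Subgroup.map_inf _ _ _ f.injective, h6, Subgroup.map_bot]
  · intro g i hg
    refine h7 (f.symm g) i (f.injective ?_)
    rw [map_mul, map_mul, map_inv, map_pow, map_pow, map_pow, f.apply_symm_apply, hg]
  · rw [← map_mul, ← map_inv, ← map_mul, h9, map_pow]
  · intro g hg
    have h := h11 (f.symm g) (f.injective (by rw [map_mul, map_mul, map_pow, f.apply_symm_apply, hg]))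
    have h' := congrArg f h
    rwa [map_mul, map_mul, f.apply_symm_apply] at h'
  · intro hb
    obtain ⟨F, hF⟩ := h12 hb
    refine ⟨fun g => F (f.symm g), fun g g' hg hg' he => hcen _ ?_⟩
    rw [map_mul, map_inv]
    exact hF _ _ (hnor g hg) (hnor g' hg') he
  · intro z hz
    obtain ⟨z', hz', rfl⟩ := Finset.mem_map.1 hz
    obtain ⟨h15, h16⟩ := h13 z' hz'
    refine ⟨(hmem z').2 h15, fun g hg => hcen g (h16 _ (f.injective ?_))⟩
    rw [map_mul, map_mul, f.apply_symm_apply]
    exact hg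
  · rw [Finset.card_map]
    exact h14

variable {M : Ideal AlgInt}

/-- **`x0 = kJ`.** -/
theorem x0_eq_kJ_of_dat2 {S : Type u} [Group S] [Finite S] (h11 : 11 ≤ p) (hM : IsPModular p M) (D : Dat2 p S) :
    x0 p M S = kJ p M S := by
  obtain ⟨P, x, y, c, e, j, b, h1, h2, h3, h4, h5, h6, -, -, -, -, -, h12, R, h13, h14⟩ := D
  have hab : ∀ z ∈ (P : Subgroup S), ∀ w ∈ (P : Subgroup S), z * w = w * z := by
    rw [h1]
    intro z hz w hw
    have hc : closure {x, y} ≤ centralizer ((closure {x, y} : Subgroup S) : Set S) := by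
      rw [closure_le]
      have hxy : ∀ a ∈ ({x, y} : Set S), ∀ d ∈ ({x, y} : Set S), a * d = d * a := by
        rintro a (rfl | rfl) d (rfl | rfl)
        · rfl
        · exact h2
        · exact h2.symm
        · rfl
      intro a ha
      rw [SetLike.mem_coe, centralizer_closure, mem_centralizer_iff]
      intro d hd
      exact hxy d hd a ha
    exact (mem_centralizer_iff.1 (hc hw) z hz)
  have hPc : Nat.card P = (p ^ b) ^ 2 := by
    have h7 := H97.KB.TwFAr.card_sup h2 h6
    rw [← H97.KB.TwFAr.closure_pair, ← h1, h4, h5, ← sq] at h7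
    exact h7
  rcases Nat.lt_or_ge b 2 with hb | hb
  · have hb1 : b = 1 := by omega
    subst hb1
    rw [pow_one] at hPc
    exact H603.AP.x0_eq_kJ_of_sq hM P hPc
  · refine H603.AP.x0_eq_kJ_of_reg hM P hab ?_
    obtain ⟨F, hF⟩ := h12 hb
    have h15 := TwFCount.card_le_of_fin F hF
    have h16 : R.card ≤ Nat.card {x : S // x ∈ (P : Subgroup S) ∧ ∀ g ∈ normalizer ((P : Subgroup S) : Set S),
        g * x = x * g → g ∈ centralizer ((P : Subgroup S) : Set S)} := by
      rw [← Fintype.card_coe R, ← Nat.card_eq_fintype_card]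
      exact Nat.card_le_card_of_injective (fun z : R => (⟨z.1, (h13 z.1 z.2).1, fun g _ => (h13 z.1 z.2).2 g⟩ :
        {x : S // x ∈ (P : Subgroup S) ∧ ∀ g ∈ normalizer ((P : Subgroup S) : Set S),
        g * x = x * g → g ∈ centralizer ((P : Subgroup S) : Set S)})) (fun z z' h => Subtype.ext (congrArg
          (fun w : {x : S // x ∈ (P : Subgroup S) ∧ ∀ g ∈ normalizer ((P : Subgroup S) : Set S),
        g * x = x * g → g ∈ centralizer ((P : Subgroup S) : Set S)} => w.1) h))
    rw [hPc]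
    exact TwFCount.height_arith h11 hb rfl Nat.card_pos h15 (h14.trans (Nat.add_le_add_right h16 _))

/-- **`p + 1 ≤ x0(S)`.** -/
theorem x0_of_dat2 {S : Type u} [Group S] [Finite S] [IsSimpleGroup S] (hna : ¬ IsMulCommutative S) (h11 : 11 ≤ p)
    (hM : IsPModular p M) (D : Dat2 p S) : p + 1 ≤ x0 p M S := by
  rw [x0_eq_kJ_of_dat2 h11 hM D]
  obtain ⟨P, x, y, c, e, j, b, h1, h2, h3, h4, h5, h6, h7, h8, h9, h10, h12, -⟩ := D
  have hpS : p ∣ Nat.card S := by
    have h := orderOf_dvd_natCard x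
    rw [h4] at h
    exact (dvd_pow_self p h3).trans h
  have hx1 : orderOf (x ^ p ^ (b - 1)) = p := by
    have hb : p ^ b = p ^ (b - 1) * p := by rw [← pow_succ, Nat.sub_add_cancel (Nat.one_le_iff_ne_zero.2 h3)]
    have h0 : p ^ (b - 1) ≠ 0 := pow_ne_zero _ hp.out.ne_zero
    rw [orderOf_pow_of_dvd h0 (by rw [h4, hb]; exact dvd_mul_right _ _), h4, hb, Nat.mul_div_cancel_left _ (Nat.pos_of_ne_zero h0)]
  have hcx : centralizer ({x ^ p ^ (b - 1)} : Set S) = centralizer ({x} : Set S) := by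
    ext g
    rw [mem_centralizer_singleton_iff, mem_centralizer_singleton_iff]
    constructor
    · intro h
      exact h12 g h
    · intro h
      have h' : Commute g x := h
      exact (h'.pow_right _).eq
  have hy : y ∉ zpowers x := by
    intro h
    have h13 : y ∈ zpowers x ⊓ zpowers y := ⟨h, mem_zpowers y⟩
    rw [h6, mem_bot] at h13
    rw [h13, orderOf_one] at h5
    exact (Nat.one_lt_pow h3 hp.out.one_lt).ne h5
  have hr := H832.KB.rank_of_rank_two hM P x y h2 h1 hy c h8 j h9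
  rw [← hcx] at hr
  have h13 := H76.KJ.kJ_of_elt (by omega) hM _ hx1 e _ h7 hr
  have h14 := H832.KB.two_le_rank_simple hM hna hpS
  omega

end Cfsg.Agent.H97.XR
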