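import Cfsg.Agent.H97.XR.TwFEx
import Cfsg.Agent.H97.XR.TwFDat2
import Cfsg.Agent.H97.KB.TwFDat

/-!
# S4791 + S4927: the Sylow `p`-subgroups of `²F₄(q)`, `p ≥ 11`, not cyclic: `Dat2` (helper97)
-/

set_option autoImplicit false
set_option linter.unusedSectionVars false
set_option linter.unnecessarySeqFocus false
set_option linter.unreachableTactic false
set_option linter.unusedTactic false

namespace Cfsg.Agent.H97.XR.TwFDatX

open Cfsg Cfsg.Lie Subgroup CoxeterSystem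
open Cfsg.Agent.ChevalleyStructure.CoxeterGeom Cfsg.Agent.ChevalleyStructure.CoxeterGeomTypes
open Cfsg.Agent.H129 Cfsg.Agent.H129.WData Cfsg.Agent.H129.SuzT Cfsg.Agent.H493.F4Tor
open Cfsg.Agent.H97.KB.TwFTor Cfsg.Agent.H97.KB.TwFFus Cfsg.Agent.H97.KB.TwFData Cfsg.Agent.H97.KB.TwFAr
  Cfsg.Agent.H97.KB.TwFDat
open Cfsg.Agent.H97.XR.TwFRoots Cfsg.Agent.H97.XR.TwFChk Cfsg.Agent.H97.XR.TwFEx

universe u

/-! ### the functionals -/

theorem hx_L1 (u : ℤ) (x : Fin 4 → ℤ) :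
    2 * La (L1 u) x = dt (0, 0, -2, 4) (q4 x) + 2 * u * dt (2, -1, 0, 0) (q4 x) := by
  simp only [La, L1, dt, q4, Fin.sum_univ_four, Matrix.cons_val]
  ring

theorem hx_M1 (u : ℤ) (x : Fin 4 → ℤ) :
    2 * La (M1 u) x = dt (0, 2, -2, 0) (q4 x) + 2 * u * dt (0, -1, 2, 0) (q4 x) := by
  simp only [La, M1, dt, q4, Fin.sum_univ_four, Matrix.cons_val]
  ring

theorem hx_L2 (u : ℤ) (x : Fin 4 → ℤ) :
    2 * La (L2 u) x = dt (2, 0, 0, -2) (q4 x) + 2 * u * dt (-1, 0, 0, 2) (q4 x) := by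
  simp only [La, L2, dt, q4, Fin.sum_univ_four, Matrix.cons_val]
  ring

theorem hx_M2 (u : ℤ) (x : Fin 4 → ℤ) :
    2 * La (M2 u) x = dt (0, -2, 4, -2) (q4 x) + 2 * u * dt (-1, 2, -2, 0) (q4 x) := by
  simp only [La, M2, dt, q4, Fin.sum_univ_four, Matrix.cons_val]
  ring

section

variable {K : Type u} [Field K] [Fintype K] {m : ℕ} (hK : Fintype.card K = 2 ^ (2 * m + 1)) {p b : ℕ}
  (hp' : p.Prime) (h11 : 11 ≤ p) (hb : b ≠ 0)

include hp' h11 in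
theorem not_two : ¬ 2 ∣ p ^ b := fun h => by
  have h1 := (Nat.prime_dvd_prime_iff_eq Nat.prime_two hp').1 (Nat.prime_two.dvd_of_dvd_pow h)
  omega

include hb in
theorem p_dvd {z : ℤ} (h : ((p ^ b : ℕ) : ℤ) ∣ z) : (p : ℤ) ∣ z := by
  refine dvd_trans ?_ h
  push_cast
  exact dvd_pow_self _ hb

include hK hp' h11 hb

theorem ex2_one (h : ((p ^ b : ℕ) : ℤ) ∣ 2 * (2 ^ m) ^ 2 - 1) {j : ℕ} (hj : ((p ^ b : ℕ) : ℤ) ∣ j + 1) :
    Ex2 K p m b j (L1 (2 ^ m)) := by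
  refine exists_ex2 (Cn := []) (Cv := V1) (Th := T1) (Ly := M1 (2 ^ m)) (bx := ![0, 0, 0, 1]) (by' := ![2, 4, 2, 1]) hK
    hp' h11 hb hAm trivial hT1 ok_V1 weq1 (fun j => h.trans (row_1_L1 _ j)) (fun j => h.trans (row_1_M1 _ j)) ?_ ?_ ?_ ?_ ?_
    (by decide +kernel) (by decide +kernel) (by decide +kernel) (by decide +kernel) ckT_1 ckC_1 ckN_1 ckU_1
    (t := 0) (n := -2) (v := 2 * 2 ^ m) ?_ (hx_L1 _) (hx_M1 _) ck1_1 ck2_1 ck3_1
  · intro i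
    rw [v_L1, Nat.cast_one, one_mul, sub_self]
    exact dvd_zero _
  · intro i
    rw [v_M1]
    have e : (j : ℤ) * -M1 (2 ^ m) i - M1 (2 ^ m) i = (j + 1) * -M1 (2 ^ m) i := by ring
    rw [e]
    exact hj.mul_right _
  · intro a ha
    have e : La (L1 (2 ^ m)) ![0, 0, 0, 1] = 2 := by simp [La, L1, Fin.sum_univ_succ]
    rw [e] at ha
    exact odd_of (not_two hp' h11) a ha
  · simp [La, M1, Fin.sum_univ_succ]
  · intro a ha
    have e : La (M1 (2 ^ m)) ![2, 4, 2, 1] = 2 := by simp [La, M1, Fin.sum_univ_succ]; try ring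
    rw [e] at ha
    exact odd_of (not_two hp' h11) a ha
  · have e : ((2 : ℤ) * 2 ^ m) ^ 2 - 0 * (2 * 2 ^ m) + -2 = 2 * (2 * (2 ^ m) ^ 2 - 1) := by ring
    rw [e]
    exact (p_dvd hb h).mul_left _

theorem ex2_two (h : ((p ^ b : ℕ) : ℤ) ∣ 2 * (2 ^ m) ^ 2 + 1) {j : ℕ} (hj : ((p ^ b : ℕ) : ℤ) ∣ j + 1) :
    Ex2 K p m b j (L1 (2 ^ m)) := by
  refine exists_ex2 (Cn := C2) (Cv := V1) (Th := T2) (Ly := M1 (2 ^ m)) (bx := ![0, 0, 0, 1]) (by' := ![2, 4, 2, 1]) hK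
    hp' h11 hb hAm ok_C2 hT2 ok_V1 weq2 (fun j => h.trans (row_2_L1 _ j)) (fun j => h.trans (row_2_M1 _ j)) ?_ ?_ ?_ ?_ ?_
    (by decide +kernel) (by decide +kernel) (by decide +kernel) (by decide +kernel) ckT_2 ckC_2 ckN_2 ckU_2
    (t := 0) (n := 2) (v := 2 * 2 ^ m) ?_ (hx_L1 _) (hx_M1 _) ck1_2 ck2_2 ck3_2
  · intro i
    rw [v_L1, Nat.cast_one, one_mul, sub_self]
    exact dvd_zero _
  · intro i
    rw [v_M1]
    have e : (j : ℤ) * -M1 (2 ^ m) i - M1 (2 ^ m) i = (j + 1) * -M1 (2 ^ m) i := by ring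
    rw [e]
    exact hj.mul_right _
  · intro a ha
    have e : La (L1 (2 ^ m)) ![0, 0, 0, 1] = 2 := by simp [La, L1, Fin.sum_univ_succ]
    rw [e] at ha
    exact odd_of (not_two hp' h11) a ha
  · simp [La, M1, Fin.sum_univ_succ]
  · intro a ha
    have e : La (M1 (2 ^ m)) ![2, 4, 2, 1] = 2 := by simp [La, M1, Fin.sum_univ_succ]; try ring
    rw [e] at ha
    exact odd_of (not_two hp' h11) a ha
  · have e : ((2 : ℤ) * 2 ^ m) ^ 2 - 0 * (2 * 2 ^ m) + 2 = 2 * (2 * (2 ^ m) ^ 2 + 1) := by ring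
    rw [e]
    exact (p_dvd hb h).mul_left _

theorem ex2_three (h : ((p ^ b : ℕ) : ℤ) ∣ 2 * (2 ^ m) ^ 2 - 2 * 2 ^ m + 1) {j : ℕ} (hj : (j : ℤ) = 2 * (2 ^ m) ^ 2) :
    Ex2 K p m b j (L2 (2 ^ m)) := by
  refine exists_ex2 (Cn := C3) (Cv := V3) (Th := T3) (Ly := M2 (2 ^ m)) (bx := ![2, 3, 2, 1]) (by' := ![0, 1, 1, 0]) hK
    hp' h11 hb hAm ok_C3 hT3 ok_V3 weq3 (fun j => h.trans (row_3_L2 _ j)) (fun j => h.trans (row_3_M2 _ j)) ?_ ?_ ?_ ?_ ?_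
    (by decide +kernel) (by decide +kernel) (by decide +kernel) (by decide +kernel) ckT_3 ckC_3 ckN_3 ckU_3
    (t := 2) (n := 2) (v := 2 * 2 ^ m) ?_ (hx_L2 _) (hx_M2 _) ck1_3 ck2_3 ck3_3
  · intro i
    rw [v_L2, Nat.cast_one, one_mul, sub_self]
    exact dvd_zero _
  · intro i
    rw [hj]
    exact h.trans (v_M2 _ i)
  · intro a ha
    have e : La (L2 (2 ^ m)) ![2, 3, 2, 1] = 1 := by simp [La, L2, Fin.sum_univ_succ]; try ring
    rwa [e, mul_one] at ha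
  · simp [La, M2, Fin.sum_univ_succ]; try ring
  · intro a ha
    have e : La (M2 (2 ^ m)) ![0, 1, 1, 0] = 1 := by simp [La, M2, Fin.sum_univ_succ]; try ring
    rwa [e, mul_one] at ha
  · have e : ((2 : ℤ) * 2 ^ m) ^ 2 - 2 * (2 * 2 ^ m) + 2 = 2 * (2 * (2 ^ m) ^ 2 - 2 * 2 ^ m + 1) := by ring
    rw [e]
    exact (p_dvd hb h).mul_left _

theorem ex2_four (h : ((p ^ b : ℕ) : ℤ) ∣ 2 * (2 ^ m) ^ 2 + 2 * 2 ^ m + 1) {j : ℕ} (hj : (j : ℤ) = 2 * (2 ^ m) ^ 2) :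
    Ex2 K p m b j (L2 (-2 ^ m)) := by
  refine exists_ex2 (Cn := C4) (Cv := V3) (Th := T4) (Ly := M2 (-2 ^ m)) (bx := ![2, 3, 2, 1]) (by' := ![0, 1, 1, 0]) hK
    hp' h11 hb hAm ok_C4 hT4 ok_V3 weq4 (fun j => h.trans (row_4_L2 _ j)) (fun j => h.trans (row_4_M2 _ j)) ?_ ?_ ?_ ?_ ?_
    (by decide +kernel) (by decide +kernel) (by decide +kernel) (by decide +kernel) ckT_4 ckC_4 ckN_4 ckU_4
    (t := 2) (n := 2) (v := 2 * -2 ^ m) ?_ (hx_L2 _) (hx_M2 _) ck1_3 ck2_3 ck3_3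
  · intro i
    rw [v_L2, Nat.cast_one, one_mul, sub_self]
    exact dvd_zero _
  · intro i
    rw [hj]
    have h1 := v_M2 (-2 ^ m) i
    have e1 : 2 * (-2 ^ m : ℤ) ^ 2 - 2 * (-2 ^ m) + 1 = 2 * (2 ^ m) ^ 2 + 2 * 2 ^ m + 1 := by ring
    have e2 : 2 * (-2 ^ m : ℤ) ^ 2 = 2 * (2 ^ m) ^ 2 := by ring
    rw [e1, e2] at h1
    exact h.trans h1
  · intro a ha
    have e : La (L2 (-2 ^ m)) ![2, 3, 2, 1] = 1 := by simp [La, L2, Fin.sum_univ_succ]; try ring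
    rwa [e, mul_one] at ha
  · simp [La, M2, Fin.sum_univ_succ]; try ring
  · intro a ha
    have e : La (M2 (-2 ^ m)) ![0, 1, 1, 0] = 1 := by simp [La, M2, Fin.sum_univ_succ]; try ring
    rwa [e, mul_one] at ha
  · have e : ((2 : ℤ) * -2 ^ m) ^ 2 - 2 * (2 * -2 ^ m) + 2 = 2 * (2 * (2 ^ m) ^ 2 + 2 * 2 ^ m + 1) := by ring
    rw [e]
    exact (p_dvd hb h).mul_left _

end

variable {p : ℕ} [Fact p.Prime]

theorem fact_ne {B : ℕ} (hpB : p ∣ B) (hB0 : B ≠ 0) : B.factorization p ≠ 0 :=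
  ((Fact.out : p.Prime).factorization_pos_of_dvd hB0 hpB).ne'

/-- the common part -/
theorem dat2_of {K : Type u} [Field K] [Fintype K] {m : ℕ} (hK : Fintype.card K = 2 ^ (2 * m + 1)) {B j e : ℕ}
    {L : Fin 4 → ℤ} (hpB : p ∣ B) (hB0 : B ≠ 0) (hC : ∃ C, cG (2 ^ (2 * m + 1)) = B ^ 2 * C ∧ ¬ p ∣ C)
    (hx : Ex2 K p m (B.factorization p) j L)
    (hf : ∀ (i : ℕ) (w : CoxeterMatrix.F₄.Group), (∀ a, (p : ℤ) ∣ i * H129.SuzT.La L (rep
      CoxeterMatrix.F₄.toCoxeterSystem H493.F4Tor.hp.isCartan w a) - H129.SuzT.La L a) → (i : ZMod p) ^ e = 1)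
    (hj : p ≤ (p - 1) / e * orderOf (j : ZMod p) + 1) : Dat2 p ↥(twistedF4 K (2 ^ m)) := by
  have hfin : Finite ↥(twistedF4 K (2 ^ m)) := inferInstance
  obtain ⟨C, hC, hC'⟩ := hC
  obtain ⟨x, y, c, h1, h2, h3, h4, h5, h6, h7, h8, h9, R, h10, h11⟩ := hx
  have hG : Nat.card ↥(twistedF4 K (2 ^ m)) = B ^ 2 * C := by rw [Cfsg.Agent.S1068.result hK]; exact hC
  obtain ⟨P, h12, -, -⟩ := sylow_two hG hC' hpB hB0 h1 h2 h3 h4
  refine ⟨P, x, y, c, e, j, B.factorization p, h12, h3, fact_ne hpB hB0, h1, h2, h4, fun g i hg => ?_, h5, h6, hj, h8, ?_,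
    R, ?_, h11⟩
  · obtain ⟨w, hw⟩ := h7 g i hg
    exact hf i w hw
  · rw [h12]
    exact h9
  · rw [h12]
    exact h10

/-- **The Sylow subgroups of `²F₄(q)`.** -/
theorem exists_dat2 (h11 : 11 ≤ p) {K : Type u} [Field K] [Fintype K] {m : ℕ} (hK : Fintype.card K = 2 ^ (2 * m + 1))
    (hP : ∀ P : Sylow p ↥(twistedF4 K (2 ^ m)), ¬ IsCyclic ↥(P : Subgroup ↥(twistedF4 K (2 ^ m)))) :
    Dat2 p ↥(twistedF4 K (2 ^ m)) := by
  have hp : p.Prime := Fact.out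
  have hfin : Finite ↥(twistedF4 K (2 ^ m)) := inferInstance
  obtain ⟨P0⟩ := (inferInstance : Nonempty (Sylow p ↥(twistedF4 K (2 ^ m))))
  obtain ⟨q, hq⟩ : ∃ q, q = 2 ^ (2 * m + 1) := ⟨_, rfl⟩
  obtain ⟨u, hu⟩ : ∃ u, u = 2 ^ m := ⟨_, rfl⟩
  have hqu : q = 2 * u ^ 2 := by rw [hq, hu]; ring
  have hu1 : 1 ≤ u := by rw [hu]; exact Nat.one_le_two_pow
  have hq1 : 1 ≤ q := by rw [hq]; exact Nat.one_le_two_pow
  have hq2 : 2 ≤ q := by rw [hqu]; nlinarith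
  have hqz : (q : ℤ) = 2 * (2 ^ m) ^ 2 := by rw [hqu, hu]; push_cast; ring
  by_cases c1 : p ∣ q - 1
  · have hB0 : q - 1 ≠ 0 := by omega
    have hpN := dvd_N c1 hB0
    have hN0 : p ^ (q - 1).factorization p ≠ 0 := pow_ne_zero _ hp.ne_zero
    refine dat2_of (e := 2) (j := p ^ (q - 1).factorization p - 1) hK c1 hB0 (by rw [← hq]; exact dec_one h11 hq1 c1)
      (ex2_one hK hp h11 (fact_ne c1 hB0) ?_ ?_) (fun i w hw => fus_one h11 dvd_rfl ?_ hw) (le_two h11 (order_neg h11 hpN hN0))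
    · rw [← hqz, ← cast_sub1 hq1]
      exact Int.natCast_dvd_natCast.2 N_dvd
    · rw [← Nat.cast_add_one, Nat.sub_add_cancel (Nat.pos_of_ne_zero hN0)]
    · rw [← hqz, ← cast_sub1 hq1]
      exact Int.natCast_dvd_natCast.2 c1
  by_cases c2 : p ∣ q + 1
  · have hB0 : q + 1 ≠ 0 := by omega
    have hpN := dvd_N c2 hB0
    have hN0 : p ^ (q + 1).factorization p ≠ 0 := pow_ne_zero _ hp.ne_zero
    have hz : ((q + 1 : ℕ) : ℤ) = 2 * (2 ^ m) ^ 2 + 1 := by rw [← hqz]; push_cast; rfl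
    refine dat2_of (e := 2) (j := p ^ (q + 1).factorization p - 1) hK c2 hB0 (by rw [← hq]; exact dec_two h11 hq1 c2)
      (ex2_two hK hp h11 (fact_ne c2 hB0) ?_ ?_) (fun i w hw => fus_two h11 dvd_rfl ?_ hw) (le_two h11 (order_neg h11 hpN hN0))
    · rw [← hz]
      exact Int.natCast_dvd_natCast.2 N_dvd
    · rw [← Nat.cast_add_one, Nat.sub_add_cancel (Nat.pos_of_ne_zero hN0)]
    · rw [← hz]
      exact Int.natCast_dvd_natCast.2 c2
  obtain ⟨B, hB⟩ : ∃ B : ℕ, (B : ℤ) = 2 * u ^ 2 - 2 * u + 1 := by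
    refine ⟨2 * (u * (u - 1)) + 1, ?_⟩
    push_cast [hu1]; ring
  obtain ⟨B', hB'⟩ : ∃ B' : ℕ, (B' : ℤ) = 2 * u ^ 2 + 2 * u + 1 := ⟨2 * u ^ 2 + 2 * u + 1, by push_cast; ring⟩
  have hBB : q ^ 2 + 1 = B' * B := by
    apply Nat.cast_injective (R := ℤ)
    push_cast
    rw [hB, hB', hqz, hu]
    push_cast
    ring
  have huz : (u : ℤ) = 2 ^ m := by rw [hu]; push_cast; rfl
  by_cases c3 : p ∣ q ^ 2 + 1
  · have hj : ((q : ℕ) : ℤ) = 2 * (2 ^ m) ^ 2 := hqz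
    rw [hBB] at c3
    rcases hp.dvd_mul.1 c3 with c | c
    · have hB0 : B' ≠ 0 := by
        rintro rfl
        push_cast at hB'
        nlinarith
      have hpN := dvd_N c hB0
      refine dat2_of (e := 4) (j := q) hK c hB0 (by
          rw [← hq]
          exact dec_three h11 hq1 hqu (e := 1) (by norm_num) (by rw [hB']; ring) (by rw [hB]; ring) c)
        (ex2_four hK hp h11 (fact_ne c hB0) ?_ hj) (fun i w hw => fus_three h11 dvd_rfl ?_ hw)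
        (le_four h11 (by rw [hBB]; exact c3))
      · rw [← huz, ← hB']
        exact Int.natCast_dvd_natCast.2 N_dvd
      · have e1 : 2 * (-2 ^ m : ℤ) ^ 2 - 2 * (-2 ^ m) + 1 = 2 * u ^ 2 + 2 * u + 1 := by rw [huz]; ring
        rw [e1, ← hB']
        exact Int.natCast_dvd_natCast.2 c
    · have hB0 : B ≠ 0 := by
        rintro rfl
        push_cast at hB
        nlinarith
      have hpN := dvd_N c hB0
      refine dat2_of (e := 4) (j := q) hK c hB0 (by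
          rw [← hq]
          exact dec_three h11 hq1 hqu (e := -1) (by norm_num) (by rw [hB]; ring) (by rw [hB']; ring) c)
        (ex2_three hK hp h11 (fact_ne c hB0) ?_ hj) (fun i w hw => fus_three h11 dvd_rfl ?_ hw)
        (le_four h11 (by rw [hBB]; exact c3))
      · rw [← huz, ← hB]
        exact Int.natCast_dvd_natCast.2 N_dvd
      · rw [← huz, ← hB]
        exact Int.natCast_dvd_natCast.2 c
  exfalso
  by_cases c4 : p ∣ q ^ 2 - q + 1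
  · have hC := dec_four h11 hq1 c4 c1 c2 c3
    rw [hq] at hC
    have hNz : ((q ^ 2 - q + 1 : ℕ) : ℤ) = 1 - 2 * (2 ^ m) ^ 2 + 4 * (2 ^ m) ^ 4 := by
      rw [cast_a4 hq1, hqz]; ring
    obtain ⟨T, h1, h2, h3, -⟩ := Cfsg.Agent.H129.CycCard.card_tF4_6 hK hNz hp (by
      rw [← hNz]; exact Int.natCast_dvd_natCast.2 c4) (by omega)
    rw [one_mul] at h3
    refine hP P0 (cyc_of hK (N := q ^ 2 - q + 1) (by rw [hq]; exact hC) (Nat.succ_ne_zero _) h1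
      (Nat.dvd_antisymm h2 h3) P0)
  by_cases c5 : p ∣ q ^ 4 - q ^ 2 + 1
  · obtain ⟨D, hD⟩ : ∃ D : ℕ, (D : ℤ) = 1 + 2 * u + 2 * u ^ 2 + 4 * u ^ 3 + 4 * u ^ 4 :=
      ⟨1 + 2 * u + 2 * u ^ 2 + 4 * u ^ 3 + 4 * u ^ 4, by push_cast; ring⟩
    obtain ⟨D', hD'⟩ : ∃ D' : ℕ, (D' : ℤ) = 1 - 2 * u + 2 * u ^ 2 - 4 * u ^ 3 + 4 * u ^ 4 := by
      refine ⟨1 + 2 * (u * (u - 1)) + 4 * (u ^ 3 * (u - 1)), ?_⟩
      push_cast [hu1]; ring
    have hDD : q ^ 4 - q ^ 2 + 1 = D * D' := by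
      apply Nat.cast_injective (R := ℤ)
      rw [cast_a5 hq1, Nat.cast_mul, hD, hD', hqz, huz]
      ring
    rw [hDD] at c5
    rcases hp.dvd_mul.1 c5 with c | c
    · have hC := dec_five h11 hq1 hqu (e := 1) (B := D) (B' := D') (by norm_num) (by rw [hD]; ring) (by rw [hD']; ring)
        c c1 c2 c3
      obtain ⟨T, h1, h2, -⟩ := Cfsg.Agent.H129.CycCard.exact_tF4_plus hK (N := D) (by rw [hD, huz])
      exact hP P0 (cyc_of hK (by rw [← hq]; exact hC) (by rintro rfl; push_cast at hD; nlinarith) h1 h2 P0)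
    · have hC := dec_five h11 hq1 hqu (e := -1) (B := D') (B' := D) (by norm_num) (by rw [hD']; ring) (by rw [hD]; ring)
        c c1 c2 c3
      obtain ⟨T, h1, h2, -⟩ := Cfsg.Agent.H129.CycCard.exact_tF4_minus hK (N := D') (by rw [hD', huz])
      refine hP P0 (cyc_of hK (by rw [← hq]; exact hC) ?_ h1 h2 P0)
      rintro rfl
      have h3 : ¬ p ∣ 0 := by
        intro _
        have h4 : (0 : ℤ) = 1 + 2 * (u * (u - 1)) + 4 * (u ^ 3 * (u - 1)) := by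
          have h5 := hD'
          push_cast at h5
          rw [h5]; ring
        have h8 : (0 : ℤ) ≤ (u : ℤ) - 1 := by
          have h9 : (1 : ℤ) ≤ u := by exact_mod_cast hu1
          linarith
        have h6 : (0 : ℤ) ≤ u * (u - 1) := mul_nonneg (by positivity) h8
        have h7 : (0 : ℤ) ≤ u ^ 3 * (u - 1) := mul_nonneg (by positivity) h8
        linarith
      exact h3 (dvd_zero p)
  -- `p` does not divide the order
  have h2 : ¬ p ∣ Nat.card ↥(twistedF4 K (2 ^ m)) := by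
    rw [Cfsg.Agent.S1068.result hK]
    show ¬ p ∣ cG (2 ^ (2 * m + 1))
    rw [← hq, cG_nat hq1]
    refine nmul (npow ?_) (nmul (npow c1) (nmul (npow c2) (nmul (npow c3) (nmul c4 c5))))
    rw [hq]
    intro h3
    have h4 := (Nat.prime_dvd_prime_iff_eq hp Nat.prime_two).1 (hp.dvd_of_dvd_pow h3)
    omega
  refine hP P0 (cyc_of_T (T := ⊥) inferInstance ?_ P0)
  rwa [Subgroup.index_bot]

end Cfsg.Agent.H97.XR.TwFDatX
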