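import Cfsg.Agent.H97.XR.TwFGrp
import Cfsg.Agent.H97.XR.TwFCount

/-!
# Elements generating a Sylow subgroup of `²F₄(q)`, with their normalizer (helper97, S4791 + S4927)

`exists_ex2` : the general construction.
-/

set_option autoImplicit false
set_option linter.unusedSectionVars false

namespace Cfsg.Agent.H97.XR.TwFEx

open CoxeterSystem Cfsg Cfsg.Lie Cfsg.Lie.ChevalleyDatum
open Cfsg.Agent.ChevalleyStructure Cfsg.Agent.ChevalleyStructure.Elts Cfsg.Agent.ChevalleyStructure.CoxeterGeom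
  Cfsg.Agent.ChevalleyStructure.CoxeterGeomTypes Cfsg.Agent.ChevalleyStructure.NPerm
open Cfsg.Agent.Tits.Roots Cfsg.Agent.Tits.Core Cfsg.Agent.Nodes Cfsg.Agent.Nodes.Reps Cfsg.Agent.Nodes.BNOf
  Cfsg.Agent.Nodes.RGDChev Cfsg.Agent.Nodes.Bruhat Cfsg.Agent.Nodes.SubComb Cfsg.Agent.Nodes.Coroot
open Cfsg.Agent.KFacts.RgdField Cfsg.Agent.KFacts.RgdChevCoord Cfsg.Agent.BpExc.TorCent Cfsg.Agent.BpExc.TorChev
open Cfsg.Agent.GpExc.Field Cfsg.Agent.BpExc.Tow Cfsg.Agent.BpExc.TowChev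
  Cfsg.Agent.BpExc.LangFr Cfsg.Agent.BpExc Cfsg.Agent.H129.TorusChar Cfsg.Agent.H129.TorusUntw
open Cfsg.Agent.H493.F4End Cfsg.Agent.H493.F4Tor Cfsg.Agent.H129 Cfsg.Agent.H129.SuzT
open Cfsg.Agent.H97.XR.TwFAlg Cfsg.Agent.H97.XR.TwFRoots Cfsg.Agent.H97.XR.TwFChk Cfsg.Agent.H97.XR.TwFGrp
open Cfsg.Agent.H97.KB.TwFTor Cfsg.Agent.H97.KB.TwFFus

universe u

local notation "WW" => CoxeterMatrix.F₄.Group
local notation "rr" => rep CoxeterMatrix.F₄.toCoxeterSystem hp.isCartan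
local notation "Rt" => IsRoot CoxeterMatrix.F₄.toCoxeterSystem hp.isCartan

/-! ### orders -/

section Ord

variable {k : Type u} [Field k] [CharP k 2] {G : Type*} [Group G] {N : ℕ} {Lx Ly : Fin 4 → ℤ}
  {e₁ : G →* ↥(chevF4.group k)} {x y : G} {u : k} (X : ED N Lx Ly e₁ x y u) (hN0 : N ≠ 0)

theorem cX_zpow {t : ↥(chevF4.group k)} (ht : t ∈ TT chevF4 k) (i : ℤ) (a : Fin 4 → ℤ) :
    cX hp (t ^ i) a = cX hp t a ^ i := by
  obtain ⟨i, rfl | rfl⟩ := Int.eq_nat_or_neg i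
  · rw [zpow_natCast, zpow_natCast, cX_pow hp ht]
  · have h1 := cX_mul hp (zpow_mem ht (-(i : ℤ))) (pow_mem ht i) a
    rw [← zpow_natCast t i, ← zpow_add, neg_add_cancel, zpow_zero, cX_one, zpow_natCast t i, cX_pow hp ht] at h1
    rw [eq_inv_of_mul_eq_one_left h1.symm, zpow_neg, zpow_natCast]

include X

theorem pow_N : x ^ N = 1 ∧ y ^ N = 1 := by
  refine ⟨X.inj ?_, X.inj ?_⟩
  · rw [map_one, map_pow]
    refine cX_inj hp (pow_mem X.hs N) (one_mem _) fun i => ?_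
    rw [cX_pow hp X.hs, cX_one, X.hcs, ← zpow_natCast, ← zpow_mul, X.one_iff]
    exact dvd_mul_left _ _
  · rw [map_one, map_pow]
    refine cX_inj hp (pow_mem X.ht N) (one_mem _) fun i => ?_
    rw [cX_pow hp X.ht, cX_one, X.hct, ← zpow_natCast, ← zpow_mul, X.one_iff]
    exact dvd_mul_left _ _

theorem order_x {bx : Fin 4 → ℤ} (hbx : ∀ a : ℤ, (N : ℤ) ∣ a * La Lx bx → (N : ℤ) ∣ a) : orderOf x = N := by
  refine Nat.dvd_antisymm (orderOf_dvd_of_pow_eq_one (pow_N X).1) ?_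
  have h1 : e₁ (x ^ orderOf x) = 1 := by rw [pow_orderOf_eq_one, map_one]
  rw [map_pow] at h1
  have h2 := cX_pow hp X.hs (orderOf x) bx
  rw [h1, cX_one, X.hcs, ← zpow_natCast, ← zpow_mul, mul_comm] at h2
  exact_mod_cast hbx _ ((X.one_iff _).1 h2.symm)

theorem order_y {bx : Fin 4 → ℤ} (hbx : ∀ a : ℤ, (N : ℤ) ∣ a * La Ly bx → (N : ℤ) ∣ a) : orderOf y = N := by
  refine Nat.dvd_antisymm (orderOf_dvd_of_pow_eq_one (pow_N X).2) ?_
  have h1 : e₁ (y ^ orderOf y) = 1 := by rw [pow_orderOf_eq_one, map_one]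
  rw [map_pow] at h1
  have h2 := cX_pow hp X.ht (orderOf y) bx
  rw [h1, cX_one, X.hct, ← zpow_natCast, ← zpow_mul, mul_comm] at h2
  exact_mod_cast hbx _ ((X.one_iff _).1 h2.symm)

theorem commute : Commute x y := by
  apply X.inj
  rw [map_mul, map_mul]
  exact TT_comm hp (K := k) _ X.hs _ X.ht

theorem inf_eq {bx : Fin 4 → ℤ} (hbx : ∀ a : ℤ, (N : ℤ) ∣ a * La Lx bx → (N : ℤ) ∣ a) (hbx0 : La Ly bx = 0) :
    Subgroup.zpowers x ⊓ Subgroup.zpowers y = ⊥ := by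
  rw [eq_bot_iff]
  rintro g ⟨⟨i, hi⟩, ⟨i', hi'⟩⟩
  have hi : x ^ i = g := hi
  have hi' : y ^ i' = g := hi'
  have h1 : e₁ x ^ i = e₁ y ^ i' := by rw [← map_zpow, ← map_zpow, hi, hi']
  have h3 := cX_zpow X.hs i bx
  rw [h1, cX_zpow X.ht, X.hct, X.hcs, hbx0, zpow_zero, one_zpow, ← zpow_mul, mul_comm] at h3
  obtain ⟨a, ha⟩ := hbx _ ((X.one_iff _).1 h3.symm)
  rw [Subgroup.mem_bot, ← hi, ha, zpow_mul, zpow_natCast, (pow_N X).1, one_zpow]

end Ord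

/-! ### the embedding -/

/-- the descent -/
theorem exists_ED {K : Type u} [Field K] [Fintype K] [CharP K 2] {k : Type u} [Field k] [IsAlgClosed k] [CharP k 2]
    (f : K →+* k) {m : ℕ} (hK : Fintype.card K = 2 ^ (2 * m + 1)) {Lx Ly : Fin 4 → ℤ} {N j : ℕ}
    {n z s t v : ↥(chevF4.group k)} {u : k} (X : YD m N Lx Ly j n z s t v u) :
    ∃ (e₁ : ↥(twistedF4 K (2 ^ m)) →* ↥(chevF4.group k)) (x y c : ↥(twistedF4 K (2 ^ m))), ED N Lx Ly e₁ x y u ∧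
      Commute c x ∧ c * y * c⁻¹ = y ^ j := by
  classical
  let ι : ↥(twistedF4 K (2 ^ m)) →* ↥(chevF4.group K) := Subgroup.inclusion (twisted_le K m)
  let e0 : ↥(twistedF4 K (2 ^ m)) →* ↥(chevF4.group k) := (emb hD f).comp ι
  have he0 : Function.Injective e0 := fun x y hxy =>
    Subgroup.inclusion_injective _ (emb_injective hD f hxy)
  have hσz : ste k m z = z * n := by rw [X.hz]; group
  have hdesc : ∀ r, n * ste k m r * n⁻¹ = r → ∃ x, e0 x = z * r * z⁻¹ := by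
    intro r hr
    have hσa : ste k m (z * r * z⁻¹) = z * r * z⁻¹ := by
      rw [map_mul, map_mul, map_inv, hσz]
      calc z * n * ste k m r * (z * n)⁻¹ = z * (n * ste k m r * n⁻¹) * z⁻¹ := by group
        _ = z * r * z⁻¹ := by rw [hr]
    obtain ⟨g, hg, hgm⟩ := exists_fin f hK hσa
    exact ⟨⟨g, hgm⟩, hg⟩
  obtain ⟨x, hx⟩ := hdesc s X.fs
  obtain ⟨y, hy⟩ := hdesc t X.ft
  obtain ⟨c, hc⟩ := hdesc v X.fv
  let e1 : ↥(twistedF4 K (2 ^ m)) →* ↥(chevF4.group k) := (MulAut.conj z⁻¹).toMonoidHom.comp e0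
  have he1 : ∀ g, e1 g = z⁻¹ * e0 g * z := fun g => by
    show z⁻¹ * e0 g * z⁻¹⁻¹ = _
    rw [inv_inv]
  have hinj : Function.Injective e1 := by
    intro a b hab
    exact he0 ((MulAut.conj z⁻¹).injective hab)
  have hx1 : e1 x = s := by rw [he1, hx]; group
  have hy1 : e1 y = t := by rw [he1, hy]; group
  have hc1 : e1 c = v := by rw [he1, hc]; group
  refine ⟨e1, x, y, c, ⟨hinj, by rw [hx1]; exact X.hs, by rw [hy1]; exact X.ht, X.hu, fun a => by rw [hx1]; exact X.hcs a,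
    fun a => by rw [hy1]; exact X.hct a⟩, ?_, ?_⟩
  · apply hinj
    rw [map_mul, map_mul, hc1, hx1]
    conv_rhs => rw [← X.vs]
    group
  · apply hinj
    rw [map_mul, map_mul, map_inv, map_pow, hc1, hy1]
    exact X.vt

/-! ### the functionals -/

theorem La_psi (L : Fin 4 → ℤ) (P : Fin 4 → Fin 4 → ℤ) (a : Fin 4 → ℤ) : La L (psi P a) = ∑ j, a j * La L (P j) := by
  unfold La
  simp only [psi_apply, Finset.sum_mul, Finset.mul_sum]
  rw [Finset.sum_comm]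
  exact Finset.sum_congr rfl fun j _ => Finset.sum_congr rfl fun i _ => by ring

/-- the coefficients -/
def fN : Fin 4 → ℤ := ![1, 1, 2, 2]

theorem fe : ∀ j : Fin 4, fN j * (eN j : ℤ) = 2 := by decide

/-- the eigenvalue -/
theorem eig {Th : Fin 4 → Fin 4 → ℤ} {L : Fin 4 → ℤ} {z N : ℤ} (hL : ∀ j, N ∣ ∑ i, rowM Th z j i * L i)
    (a : Fin 4 → ℤ) : N ∣ La L (psi (fun j => fN j • Th j) a) - 2 * z * La L a := by
  have h1 : ∀ j, La L (fN j • Th j) = fN j * (∑ i, rowM Th z j i * L i) + 2 * z * L j := by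
    intro j
    have h2 : Th j = rowM Th z j + ((eN j : ℤ) * z) • (sr j : Fin 4 → ℤ) := by
      rw [rowM_eq, sub_add_cancel]
    have h3 : La L (Th j) = (∑ i, rowM Th z j i * L i) + (eN j : ℤ) * z * L j := by
      conv_lhs => rw [h2]
      rw [La_add, La_smul, La_sr]
      rfl
    rw [La_smul, h3, mul_add, ← mul_assoc, ← mul_assoc, fe]
  have h2 : La L (psi (fun j => fN j • Th j) a) - 2 * z * La L a =
      ∑ j, a j * (fN j * (∑ i, rowM Th z j i * L i)) := by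
    rw [La_psi]
    unfold La
    rw [Finset.mul_sum, ← Finset.sum_sub_distrib]
    refine Finset.sum_congr rfl fun j _ => ?_
    have h3 := h1 j
    unfold La at h3
    rw [h3]
    ring
  rw [h2]
  exact Finset.dvd_sum fun j _ => ((hL j).mul_left _).mul_left _

theorem root_zero {p : ℕ} (hp' : p.Prime) (h11 : 11 ≤ p) {t n v : ℤ} (hv : (p : ℤ) ∣ v ^ 2 - t * v + n) {Lx : Fin 4 → ℤ}
    {A B : Q4} (hx : ∀ x, 2 * La Lx x = dt A (q4 x) + v * dt B (q4 x)) (hc : ck3 t n A B = true) {a : Fin 4 → ℤ}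
    (ha : Rt a) (h : (p : ℤ) ∣ La Lx a) : La Lx a = 0 := by
  have h6 := List.all_eq_true.1 hc (q4 a) (mem_RL.1 ha)
  rw [Bool.or_eq_true, Bool.and_eq_true, decide_eq_true_eq, decide_eq_true_eq, beq_iff_eq] at h6
  rcases h6 with ⟨h7, h8⟩ | h6
  · have h9 := hx a
    rw [h7, h8, mul_zero, add_zero] at h9
    omega
  · exfalso
    have h1 : (p : ℤ) ∣ dt A (q4 a) + v * dt B (q4 a) := by rw [← hx]; exact h.mul_left _
    have e1 : (p : ℤ) ∣ dt A (q4 a) * dt A (q4 a) + t * dt A (q4 a) * dt B (q4 a) + n * dt B (q4 a) * dt B (q4 a) := by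
      have e : dt A (q4 a) * dt A (q4 a) + t * dt A (q4 a) * dt B (q4 a) + n * dt B (q4 a) * dt B (q4 a) =
        (dt A (q4 a) + v * dt B (q4 a)) * (dt A (q4 a) + dt B (q4 a) * t - dt B (q4 a) * v) +
          dt B (q4 a) ^ 2 * (v ^ 2 - t * v + n) := by ring
      rw [e]
      exact dvd_add (h1.mul_right _) (hv.mul_left _)
    have h4 := (Int.natCast_dvd.1 e1).trans (Nat.dvd_of_mod_eq_zero h6)
    exact aux' hp' h11 (a := 6) (b := 1) (c := 0) (d := 0) (by norm_num; exact h4)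

/-! ### the general construction -/

/-- the elements `x`, `y`, `c` and the normalizer -/
def Ex2 (K : Type u) [Field K] (p m b j : ℕ) (L : Fin 4 → ℤ) : Prop :=
  ∃ x y c : ↥(twistedF4 K (2 ^ m)), orderOf x = p ^ b ∧ orderOf y = p ^ b ∧ Commute x y ∧
    Subgroup.zpowers x ⊓ Subgroup.zpowers y = ⊥ ∧ Commute c x ∧ c * y * c⁻¹ = y ^ j ∧
    (∀ (g : ↥(twistedF4 K (2 ^ m))) (i : ℕ), g * x ^ p ^ (b - 1) * g⁻¹ = (x ^ p ^ (b - 1)) ^ i → ∃ w : WW,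
      ∀ a, (p : ℤ) ∣ i * La L (rr w a) - La L a) ∧
    (∀ g, g * x ^ p ^ (b - 1) = x ^ p ^ (b - 1) * g → g * x = x * g) ∧
    (2 ≤ b → ∃ F : ↥(twistedF4 K (2 ^ m)) → Fin 96, ∀ g g' : ↥(twistedF4 K (2 ^ m)),
      g ∈ Subgroup.normalizer ((Subgroup.closure {x, y} : Subgroup ↥(twistedF4 K (2 ^ m))) : Set ↥(twistedF4 K (2 ^ m))) →
      g' ∈ Subgroup.normalizer ((Subgroup.closure {x, y} : Subgroup ↥(twistedF4 K (2 ^ m))) : Set ↥(twistedF4 K (2 ^ m))) →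
      F g = F g' → g⁻¹ * g' ∈
        Subgroup.centralizer ((Subgroup.closure {x, y} : Subgroup ↥(twistedF4 K (2 ^ m))) : Set ↥(twistedF4 K (2 ^ m)))) ∧
    ∃ R : Finset ↥(twistedF4 K (2 ^ m)), (∀ z ∈ R, z ∈ (Subgroup.closure {x, y} : Subgroup ↥(twistedF4 K (2 ^ m))) ∧
      ∀ g, g * z = z * g → g ∈
        Subgroup.centralizer ((Subgroup.closure {x, y} : Subgroup ↥(twistedF4 K (2 ^ m))) : Set ↥(twistedF4 K (2 ^ m)))) ∧
      (p ^ b) ^ 2 ≤ R.card + 24 * p ^ b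

theorem exists_ex2 {K : Type u} [Field K] [Fintype K] {m : ℕ} (hK : Fintype.card K = 2 ^ (2 * m + 1)) {p b : ℕ}
    (hp' : p.Prime) (h11 : 11 ≤ p) (hb : b ≠ 0)
    {Cn : List (Fin 4 × WData.Mat 4)} {Am : WData.Mat 4}
    (hAm : ∀ i j, Am i j = cartanOf chevF4 4 i j) (hCn : WData.ChainOK Am Cn) {Th : Fin 4 → Fin 4 → ℤ}
    (hTh : ∀ j, WData.hd Cn (rv j) = Th j) {Cv : List (Fin 4 × WData.Mat 4)} (hCv : WData.ChainOK Am Cv)
    (hw : weq (Cn.map Prod.fst ++ (Cv.map Prod.fst).map rv) (Cv.map Prod.fst ++ Cn.map Prod.fst) = true)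
    {Lx Ly : Fin 4 → ℤ}
    (hLx : ∀ j, ((p ^ b : ℕ) : ℤ) ∣ ∑ i, rowM Th (2 ^ m) j i * Lx i)
    (hLy : ∀ j, ((p ^ b : ℕ) : ℤ) ∣ ∑ i, rowM Th (2 ^ m) j i * Ly i)
    {j : ℕ} (hvx : ∀ i, ((p ^ b : ℕ) : ℤ) ∣ (1 : ℕ) * La Lx (WData.hd Cv i) - Lx i)
    (hvy : ∀ i, ((p ^ b : ℕ) : ℤ) ∣ j * La Ly (WData.hd Cv i) - Ly i) {bx by' : Fin 4 → ℤ}
    (hbx : ∀ a : ℤ, ((p ^ b : ℕ) : ℤ) ∣ a * La Lx bx → ((p ^ b : ℕ) : ℤ) ∣ a) (hbx0 : La Ly bx = 0)
    (hby : ∀ a : ℤ, ((p ^ b : ℕ) : ℤ) ∣ a * La Ly by' → ((p ^ b : ℕ) : ℤ) ∣ a)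
    {P0 P1 P2 P3 : Q4} (h0 : q4 (fN 0 • Th 0) = P0) (h1 : q4 (fN 1 • Th 1) = P1) (h2 : q4 (fN 2 • Th 2) = P2)
    (h3 : q4 (fN 3 • Th 3) = P3) (hT : ckT P0 P1 P2 P3 = true) {cmb : List Q4} (hC : ckC P0 P1 P2 P3 cmb = true)
    (hN : ckN P0 P1 P2 P3 cmb = true) {U0 U1 U2 U3 : Q4} (hU : ckU P0 P1 P2 P3 U0 U1 U2 U3 = true)
    {t n v : ℤ} (hv : (p : ℤ) ∣ v ^ 2 - t * v + n) {A B C D : Q4}
    (hx : ∀ x, 2 * La Lx x = dt A (q4 x) + v * dt B (q4 x)) (hy : ∀ x, 2 * La Ly x = dt C (q4 x) + v * dt D (q4 x))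
    (hc1 : ck1 t n A B C D = true) (hc2 : ck2 t n A B C D = true) (hc3 : ck3 t n A B = true) : Ex2 K p m b j Lx := by
  classical
  have hWf : Finite CoxeterMatrix.F₄.Group := Nat.finite_of_card_ne_zero (by rw [CycT.cardW_F4]; norm_num)
  have hpW : ¬ p ∣ Nat.card CoxeterMatrix.F₄.Group := by
    rw [CycT.cardW_F4]
    intro h
    exact aux' hp' h11 (a := 7) (b := 2) (c := 0) (d := 0) (by norm_num; exact h)
  have : Fact (Nat.Prime 2) := ⟨Nat.prime_two⟩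
  have hcK : CharP K 2 := F4Fixed.charP_two hK
  obtain ⟨r, e, hpF, hpc, hpk, he, hpe, hk⟩ := exists_closure hK
  have hp2 : r = 2 := CharP.eq K hpc hcK
  subst hp2
  have hpN0 : p ^ b ≠ 0 := pow_ne_zero _ hp'.ne_zero
  have hN2 : ¬ 2 ∣ p ^ b := fun h => by
    have h1 := (Nat.prime_dvd_prime_iff_eq Nat.prime_two hp').1 (Nat.prime_two.dvd_of_dvd_pow h)
    omega
  obtain ⟨n', z, s, t', v', u, Y⟩ := exists_YD hk hAm hCn hTh hCv hw m hN2 hLx hLy hvx hvy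
  obtain ⟨e₁, x, y, c, X, hcx, hcy⟩ := exists_ED (algebraMap K (AlgebraicClosure K)) hK Y
  have hox := order_x X hbx
  have hoy := order_y X hby
  have hxy := commute X
  have hinf := inf_eq X hbx hbx0
  have hbp : p ^ b = p ^ (b - 1) * p := by rw [← pow_succ, Nat.sub_add_cancel (Nat.one_le_iff_ne_zero.2 hb)]
  have hpb1 : ((p ^ (b - 1) : ℕ) : ℤ) ≠ 0 := by exact_mod_cast pow_ne_zero _ hp'.ne_zero
  have hred : ∀ y : ℤ, ((p ^ b : ℕ) : ℤ) ∣ ((p ^ (b - 1) : ℕ) : ℤ) * y → (p : ℤ) ∣ y := by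
    intro y hy
    rw [hbp, Nat.cast_mul] at hy
    exact (mul_dvd_mul_iff_left hpb1).1 hy
  -- the regular elements
  have hreg0 : ∀ s : Fin 24, ¬ ((p : ℤ) ∣ La Lx (RT s) ∧ (p : ℤ) ∣ La Ly (RT s)) := fun s =>
    root_ne hp' h11 hv hx hy hc1 (isRoot_RT s)
  have hLc : ∀ (i j : ℤ) (a : Fin 4 → ℤ), La (fun l => i * Lx l + j * Ly l) a = i * La Lx a + j * La Ly a := by
    intro i j a
    unfold La
    rw [Finset.mul_sum, Finset.mul_sum, ← Finset.sum_add_distrib]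
    exact Finset.sum_congr rfl fun l _ => by ring
  have hregR : ∀ i j : ℕ, (∀ s : Fin 24, ¬ ((p ^ b : ℕ) : ℤ) ∣ (i : ℤ) * La Lx (RT s) + (j : ℤ) * La Ly (RT s)) →
      ∀ a, Rt a → ¬ ((p ^ b : ℕ) : ℤ) ∣ (i : ℤ) * La Lx a + (j : ℤ) * La Ly a := by
    intro i j h a ha
    rw [← hLc]
    exact not_dvd_root (fun s => by rw [hLc]; exact h s) ha
  obtain ⟨R, hR1, hR2⟩ := TwFCount.exists_reg hp' rfl (fun s => La Lx (RT s)) (fun s => La Ly (RT s)) hreg0 hxy hox hoy hinf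
  have hcen : ∀ g, g * x = x * g → g * y = y * g → g ∈
      Subgroup.centralizer ((Subgroup.closure {x, y} : Subgroup ↥(twistedF4 K (2 ^ m))) : Set ↥(twistedF4 K (2 ^ m))) := by
    intro g hgx hgy
    rw [Subgroup.centralizer_closure, Subgroup.mem_centralizer_iff]
    rintro z (rfl | rfl)
    · exact hgx.symm
    · exact hgy.symm
  refine ⟨x, y, c, hox, hoy, hxy, hinf, hcx, hcy, ?_, ?_, ?_, R, ?_, hR2⟩
  · intro g i hg
    obtain ⟨w, hw⟩ := X.fus hpN0 hk (p ^ (b - 1)) i hg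
    exact ⟨w, fun a => hred _ (hw a)⟩
  · intro g hg
    refine X.comm_of_pow' hpN0 hk hp' hpW hbp (fun a ha h => ?_) hg
    rw [root_zero hp' h11 hv hx hc3 ha (hred _ h)]
    exact dvd_zero _
  · intro hb2
    have hRne : ∃ z, z ∈ R := by
      by_contra hcon
      push Not at hcon
      have h4 : R = ∅ := Finset.eq_empty_of_forall_notMem hcon
      rw [h4, Finset.card_empty, zero_add, sq] at hR2
      have h5 : p ^ b ≤ 24 := Nat.le_of_mul_le_mul_right hR2 (Nat.pos_of_ne_zero hpN0)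
      have h6 : p ^ 2 ≤ p ^ b := Nat.pow_le_pow_right (by omega) hb2
      nlinarith
    obtain ⟨z0, hz0⟩ := hRne
    obtain ⟨i0, j0, -, h4⟩ := hR1 z0 hz0
    refine X.exists_fin hpN0 hk hp' hpW rfl hb (hregR i0 j0 h4) (P := fun j => fN j • Th j) (v := 2 * 2 ^ m)
      (eig hLx) (eig hLy) (fun w hw => ?_) ?_
    · exact comm_psi (P := fun j => fN j • Th j) h0 h1 h2 h3 hp' h11 hv hx hy hT hc2 hw
    · exact TwFRoots.exists_fin (P := fun j => fN j • Th j) h0 h1 h2 h3 hC hN hU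
  · intro z hz
    obtain ⟨i, j, rfl, h4⟩ := hR1 z hz
    have hx1 : x ∈ Subgroup.closure {x, y} := Subgroup.subset_closure (Or.inl rfl)
    have hy1 : y ∈ Subgroup.closure {x, y} := Subgroup.subset_closure (Or.inr rfl)
    refine ⟨mul_mem (pow_mem hx1 _) (pow_mem hy1 _), fun g hg => ?_⟩
    obtain ⟨h5, h6⟩ := X.reg hpN0 hk hp' hpW rfl (hregR i j h4) hg
    exact hcen g h5 h6

end Cfsg.Agent.H97.XR.TwFEx
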