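import Cfsg.Agent.H97.KB.TwFData
import Cfsg.Agent.H97.XR.TwFChk

/-!
# Elements of the Weyl group of type `F₄` commuting with an isogeny (helper97, S4791 + S4927)

`psi P` : the linear map with `sr j ↦ P j`.

* `nm_act` : the Weyl group preserves the lengths;
* `comm_psi` : an element of the Weyl group which commutes with `psi P` modulo `p` on the two functionals commutes with it;
* `exists_fin` : there are at most 96 elements of the Weyl group commuting with `psi P`.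
-/

set_option autoImplicit false
set_option linter.unusedSectionVars false

namespace Cfsg.Agent.H97.XR.TwFRoots

open CoxeterSystem Cfsg Cfsg.Lie Cfsg.Lie.ChevalleyDatum
open Cfsg.Agent.ChevalleyStructure Cfsg.Agent.ChevalleyStructure.CoxeterGeom Cfsg.Agent.ChevalleyStructure.CoxeterGeomTypes
open Cfsg.Agent.Tits.Roots Cfsg.Agent.Tits.Core Cfsg.Agent.Nodes Cfsg.Agent.Nodes.Reps
open Cfsg.Agent.H493.F4Tor Cfsg.Agent.H129.SuzT Cfsg.Agent.H97.KB.TwFFus Cfsg.Agent.H97.XR.TwFChk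

local notation "WW" => CoxeterMatrix.F₄.Group
local notation "rr" => rep CoxeterMatrix.F₄.toCoxeterSystem hp.isCartan
local notation "Rt" => IsRoot CoxeterMatrix.F₄.toCoxeterSystem hp.isCartan

def q4 (v : Fin 4 → ℤ) : Q4 := (v 0, v 1, v 2, v 3)

theorem q4_inj {v w : Fin 4 → ℤ} (h : q4 v = q4 w) : v = w := by
  unfold q4 at h
  obtain ⟨h0, h1, h2, h3⟩ := by simpa only [Prod.mk.injEq] using h
  funext i
  fin_cases i
  · exact h0
  · exact h1
  · exact h2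
  · exact h3

theorem q4_add (v w : Fin 4 → ℤ) : q4 (v + w) = ad (q4 v) (q4 w) := rfl

theorem q4_sub (v w : Fin 4 → ℤ) : q4 (v - w) = sb (q4 v) (q4 w) := rfl

theorem q4_smul (c : ℤ) (v : Fin 4 → ℤ) : q4 (c • v) = ml c (q4 v) := rfl

theorem RT_RL : ∀ s : Fin 24, q4 (RT s) ∈ RL ∧ q4 (-RT s) ∈ RL := by
  decide +kernel

theorem RL_RT : ∀ q ∈ RL, ∃ s : Fin 24, q = q4 (RT s) ∨ q = q4 (-RT s) := by
  decide +kernel

theorem mem_RL {a : Fin 4 → ℤ} : Rt a ↔ q4 a ∈ RL := by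
  rw [← mem_RR]
  unfold RR
  rw [Finset.mem_union, Finset.mem_image, Finset.mem_image]
  constructor
  · rintro (⟨s, -, rfl⟩ | ⟨s, -, rfl⟩)
    · exact (RT_RL s).1
    · exact (RT_RL s).2
  · intro h
    obtain ⟨s, hs | hs⟩ := RL_RT _ h
    · exact Or.inl ⟨s, Finset.mem_univ _, (q4_inj hs).symm⟩
    · exact Or.inr ⟨s, Finset.mem_univ _, (q4_inj hs).symm⟩

theorem isR_q4 {a : Fin 4 → ℤ} : isR (q4 a) = true ↔ Rt a := isR_iff.trans mem_RL.symm

/-! ### the lengths -/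

theorem long_iff {a : Fin 4 → ℤ} (ha : Rt a) :
    (nm (q4 a) = 1 ∨ nm (q4 a) = 2) ∧ (nm (q4 a) = 2 ↔ ∃ s, Rt s ∧ Rt (a + s) ∧ Rt (a + (2 : ℤ) • s)) := by
  have h1 := List.all_eq_true.1 ckL_true (q4 a) (mem_RL.1 ha)
  rw [Bool.or_eq_true, Bool.and_eq_true, Bool.and_eq_true, decide_eq_true_eq, decide_eq_true_eq, List.all_eq_true,
    List.any_eq_true] at h1
  rcases h1 with ⟨h1, h2⟩ | ⟨h1, q, h2, h3⟩
  · refine ⟨Or.inl h1, fun h => ?_, ?_⟩
    · rw [h1] at h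
      exact absurd h (by norm_num)
    · rintro ⟨s, hs, h3, h4⟩
      exfalso
      have h5 := h2 (q4 s) (mem_RL.1 hs)
      have h6 := List.all_eq_true.1 nb_RL _ (mem_RL.1 h3)
      have h7 := List.all_eq_true.1 nb_RL _ (mem_RL.1 h4)
      rw [q4_add] at h6
      rw [q4_add, q4_smul] at h7
      rw [h6, h7] at h5
      exact Bool.noConfusion h5
  · refine ⟨Or.inr h1, fun _ => ?_, fun _ => h1⟩
    rw [Bool.and_eq_true] at h3
    obtain ⟨s, hs | hs⟩ := RL_RT _ h2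
    · refine ⟨RT s, mem_RL.2 (hs ▸ h2), ?_, ?_⟩
      · rw [← isR_q4, q4_add, ← hs]; exact h3.1
      · rw [← isR_q4, q4_add, q4_smul, ← hs]; exact h3.2
    · refine ⟨-RT s, mem_RL.2 (hs ▸ h2), ?_, ?_⟩
      · rw [← isR_q4, q4_add, ← hs]; exact h3.1
      · rw [← isR_q4, q4_add, q4_smul, ← hs]; exact h3.2

theorem long_act (w : WW) {a : Fin 4 → ℤ} (ha : Rt a) (h : nm (q4 a) = 2) : nm (q4 (rr w a)) = 2 := by
  obtain ⟨s, h1, h2, h3⟩ := (long_iff ha).2.1 h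
  refine (long_iff (ha.act w)).2.2 ⟨rr w s, h1.act w, ?_, ?_⟩
  · rw [← map_add]
    exact h2.act w
  · rw [← map_smul, ← map_add]
    exact h3.act w

theorem nm_act (w : WW) {a : Fin 4 → ℤ} (ha : Rt a) : nm (q4 (rr w a)) = nm (q4 a) := by
  rcases (long_iff ha).1 with h | h
  · rcases (long_iff (ha.act w)).1 with h' | h'
    · rw [h, h']
    · have h1 := long_act w⁻¹ (ha.act w) h'
      rw [← Module.End.mul_apply, ← map_mul, inv_mul_cancel, map_one, Module.End.one_apply] at h1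
      rw [h', h1]
  · rw [h, long_act w ha h]

/-! ### the linear map -/

/-- the linear map with `sr j ↦ P j` -/
def psi (P : Fin 4 → Fin 4 → ℤ) : (Fin 4 → ℤ) →ₗ[ℤ] (Fin 4 → ℤ) where
  toFun v := fun i => ∑ j, v j * P j i
  map_add' v w := by
    funext i
    show ∑ j, (v j + w j) * P j i = ∑ j, v j * P j i + ∑ j, w j * P j i
    rw [← Finset.sum_add_distrib]
    exact Finset.sum_congr rfl fun j _ => by ring
  map_smul' c v := by
    funext i
    show ∑ j, (c * v j) * P j i = c * ∑ j, v j * P j i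
    rw [Finset.mul_sum]
    exact Finset.sum_congr rfl fun j _ => by ring

theorem psi_apply (P : Fin 4 → Fin 4 → ℤ) (v : Fin 4 → ℤ) (i : Fin 4) : psi P v i = ∑ j, v j * P j i := rfl

theorem La_eq (L v : Fin 4 → ℤ) : La L v = dt (q4 L) (q4 v) := by
  unfold La dt q4
  rw [Fin.sum_univ_four]
  ring

theorem La_sub (L v w : Fin 4 → ℤ) : La L (v - w) = La L v - La L w := by
  unfold La
  rw [← Finset.sum_sub_distrib]
  exact Finset.sum_congr rfl fun i _ => by rw [Pi.sub_apply, sub_mul]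

theorem La_smul (L v : Fin 4 → ℤ) (c : ℤ) : La L (c • v) = c * La L v := by
  unfold La
  rw [Finset.mul_sum]
  exact Finset.sum_congr rfl fun i _ => by rw [Pi.smul_apply, smul_eq_mul, mul_assoc]

variable {P : Fin 4 → Fin 4 → ℤ} {P0 P1 P2 P3 : Q4} (h0 : q4 (P 0) = P0) (h1 : q4 (P 1) = P1) (h2 : q4 (P 2) = P2)
  (h3 : q4 (P 3) = P3)

include h0 h1 h2 h3

theorem q4_psi (v : Fin 4 → ℤ) : q4 (psi P v) = ps P0 P1 P2 P3 (q4 v) := by
  subst h0 h1 h2 h3
  unfold q4 ps ad ml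
  simp only [psi_apply, Fin.sum_univ_four, Prod.mk.injEq]
  refine ⟨?_, ?_, ?_, ?_⟩ <;> ring

/-- the images of the roots -/
theorem psi_root (hT : ckT P0 P1 P2 P3 = true) {a : Fin 4 → ℤ} (ha : Rt a) :
    (nm (q4 a) = 1 ∧ Rt (psi P a) ∧ nm (q4 (psi P a)) = 2) ∨
      (nm (q4 a) = 2 ∧ ∃ b, Rt b ∧ nm (q4 b) = 1 ∧ psi P a = (2 : ℤ) • b) := by
  have h4 := List.all_eq_true.1 hT (q4 a) (mem_RL.1 ha)
  rw [Bool.or_eq_true] at h4
  simp only [Bool.and_eq_true, decide_eq_true_eq, ← q4_psi h0 h1 h2 h3] at h4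
  rcases h4 with ⟨⟨h4, h5⟩, h6⟩ | ⟨⟨⟨h4, h5⟩, h6⟩, h7⟩
  · exact Or.inl ⟨h4, isR_q4.1 h5, h6⟩
  · right
    refine ⟨h4, ?_⟩
    obtain ⟨s, hs | hs⟩ := RL_RT _ (isR_iff.1 h5)
    · refine ⟨RT s, ?_, ?_, ?_⟩
      · rw [← isR_q4, ← hs]; exact h5
      · rw [← hs]; exact h6
      · apply q4_inj
        rw [q4_smul, ← hs]
        exact eqb_iff.1 h7
    · refine ⟨-RT s, ?_, ?_, ?_⟩
      · rw [← isR_q4, ← hs]; exact h5
      · rw [← hs]; exact h6
      · apply q4_inj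
        rw [q4_smul, ← hs]
        exact eqb_iff.1 h7

omit h0 h1 h2 h3 in
/-- the certificate -/
theorem cb_false {p : ℕ} (hp' : p.Prime) (h11 : 11 ≤ p) {t n v a b c d : ℤ} (hv : (p : ℤ) ∣ v ^ 2 - t * v + n)
    (hc : cb t n a b c d = true) (h1 : (p : ℤ) ∣ a + v * b) (h2 : (p : ℤ) ∣ c + v * d) : False := by
  have e1 : (p : ℤ) ∣ a * a + t * a * b + n * b * b := by
    have e : a * a + t * a * b + n * b * b = (a + v * b) * (a + b * t - b * v) + b ^ 2 * (v ^ 2 - t * v + n) := by ring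
    rw [e]
    exact dvd_add (h1.mul_right _) (hv.mul_left _)
  have e2 : (p : ℤ) ∣ c * c + t * c * d + n * d * d := by
    have e : c * c + t * c * d + n * d * d = (c + v * d) * (c + d * t - d * v) + d ^ 2 * (v ^ 2 - t * v + n) := by ring
    rw [e]
    exact dvd_add (h2.mul_right _) (hv.mul_left _)
  have e3 : (p : ℤ) ∣ b * c - a * d := by
    have e : b * c - a * d = b * (c + v * d) - d * (a + v * b) := by ring
    rw [e]
    exact dvd_sub (h2.mul_left _) (h1.mul_left _)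
  have e4 : (p : ℤ) ∣ a * c + t * a * d + n * b * d := by
    have e : a * c + t * a * d + n * b * d = (a + v * b) * (c + d * t - d * v) - (b * c - a * d) * v +
        b * d * (v ^ 2 - t * v + n) := by ring
    rw [e]
    exact dvd_add (dvd_sub (h1.mul_right _) (e3.mul_right _)) (hv.mul_left _)
  have h3 := Nat.dvd_gcd (Nat.dvd_gcd (Int.natCast_dvd.1 e1) (Int.natCast_dvd.1 e2))
    (Nat.dvd_gcd (Int.natCast_dvd.1 e3) (Int.natCast_dvd.1 e4))
  unfold cb at hc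
  rw [beq_iff_eq] at hc
  have h4 := h3.trans (Nat.dvd_of_mod_eq_zero hc)
  exact aux' hp' h11 (a := 6) (b := 1) (c := 0) (d := 0) (by norm_num; exact h4)

omit h0 h1 h2 h3 in
theorem two_dvd {p : ℕ} (hp' : p.Prime) (h11 : 11 ≤ p) {z : ℤ} (h : (p : ℤ) ∣ 2 * z) : (p : ℤ) ∣ z := by
  have h1 : IsCoprime (p : ℤ) 2 := by
    have h2 : Nat.Coprime p 2 := (Nat.coprime_primes hp' Nat.prime_two).2 (by omega)
    exact_mod_cast Nat.isCoprime_iff_coprime.2 h2
  exact h1.dvd_of_dvd_mul_left h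

section Fun

variable {p : ℕ} (hp' : p.Prime) (h11 : 11 ≤ p) {t n v : ℤ} (hv : (p : ℤ) ∣ v ^ 2 - t * v + n) {Lx Ly : Fin 4 → ℤ}
  {A B C D : Q4} (hx : ∀ x, 2 * La Lx x = dt A (q4 x) + v * dt B (q4 x))
  (hy : ∀ x, 2 * La Ly x = dt C (q4 x) + v * dt D (q4 x))

include hp' h11 hv hx hy

omit h0 h1 h2 h3 in
/-- the roots are not trivial modulo `p` -/
theorem root_ne (hc : ck1 t n A B C D = true) {a : Fin 4 → ℤ} (ha : Rt a) :
    ¬ ((p : ℤ) ∣ La Lx a ∧ (p : ℤ) ∣ La Ly a) := by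
  rintro ⟨h4, h5⟩
  have h6 := List.all_eq_true.1 hc (q4 a) (mem_RL.1 ha)
  refine cb_false hp' h11 hv h6 ?_ ?_
  · rw [← hx]; exact h4.mul_left _
  · rw [← hy]; exact h5.mul_left _

omit h0 h1 h2 h3 in
/-- roots of the same length are different modulo `p` -/
theorem root_inj (hc : ck2 t n A B C D = true) {a b : Fin 4 → ℤ} (ha : Rt a) (hb : Rt b)
    (hab : nm (q4 a) = nm (q4 b)) (h4 : (p : ℤ) ∣ La Lx (a - b)) (h5 : (p : ℤ) ∣ La Ly (a - b)) : a = b := by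
  have h6 := List.all_eq_true.1 (List.all_eq_true.1 hc (q4 a) (mem_RL.1 ha)) (q4 b) (mem_RL.1 hb)
  rw [Bool.or_eq_true, Bool.or_eq_true, decide_eq_true hab] at h6
  rcases h6 with h6 | h6 | h6
  · exact Bool.noConfusion h6
  · exact q4_inj (eqb_iff.1 h6)
  · exfalso
    refine cb_false hp' h11 hv h6 ?_ ?_
    · rw [← q4_sub, ← hx]; exact h4.mul_left _
    · rw [← q4_sub, ← hy]; exact h5.mul_left _

/-- **Commuting with `ψ`.** -/
theorem comm_psi (hT : ckT P0 P1 P2 P3 = true) (hc : ck2 t n A B C D = true) {w : WW}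
    (hw : ∀ a, Rt a → (p : ℤ) ∣ La Lx (rr w (psi P a) - psi P (rr w a)) ∧
      (p : ℤ) ∣ La Ly (rr w (psi P a) - psi P (rr w a))) (x : Fin 4 → ℤ) : rr w (psi P x) = psi P (rr w x) := by
  have key : ∀ a, Rt a → rr w (psi P a) = psi P (rr w a) := by
    intro a ha
    obtain ⟨h4, h5⟩ := hw a ha
    have h6 := nm_act w ha
    rcases psi_root h0 h1 h2 h3 hT ha with ⟨h7, h8, h9⟩ | ⟨h7, b, h8, h9, h10⟩
    · rcases psi_root h0 h1 h2 h3 hT (ha.act w) with ⟨-, h8', h9'⟩ | ⟨h7', -⟩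
      · exact root_inj hp' h11 hv hx hy hc (h8.act w) h8' (by rw [nm_act w h8, h9, h9']) h4 h5
      · rw [h6, h7] at h7'
        exact absurd h7' (by norm_num)
    · rcases psi_root h0 h1 h2 h3 hT (ha.act w) with ⟨h7', -⟩ | ⟨-, b', h8', h9', h10'⟩
      · rw [h6, h7] at h7'
        exact absurd h7' (by norm_num)
      · have e : rr w (psi P a) - psi P (rr w a) = (2 : ℤ) • (rr w b - b') := by
          rw [h10, h10', map_smul, smul_sub]
        rw [e, La_smul] at h4 h5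
        have h11' := root_inj hp' h11 hv hx hy hc (h8.act w) h8' (by rw [nm_act w h8, h9, h9'])
          (two_dvd hp' h11 h4) (two_dvd hp' h11 h5)
        rw [h10, h10', map_smul, h11']
  have h4 : (rr w).comp (psi P) = (psi P).comp (rr w) := by
    refine LinearMap.pi_ext' fun i => LinearMap.ext_ring ?_
    exact key _ (isRoot_sr _ hp.isCartan i)
  exact congrArg (fun f : (Fin 4 → ℤ) →ₗ[ℤ] (Fin 4 → ℤ) => f x) h4

end Fun

/-! ### the number of elements -/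

omit h0 h1 h2 h3 in
/-- a vector from a quadruple -/
def vc (q : Q4) : Fin 4 → ℤ := ![q.1, q.2.1, q.2.2.1, q.2.2.2]

omit h0 h1 h2 h3 in
theorem q4_vc (q : Q4) : q4 (vc q) = q := rfl

/-- linear combinations -/
theorem q4_lc (x y : Fin 4 → ℤ) (c : Q4) :
    q4 (c.1 • x + (c.2.1 • psi P x + (c.2.2.1 • y + c.2.2.2 • psi P y))) = lc P0 P1 P2 P3 (q4 x) (q4 y) c := by
  unfold lc
  rw [q4_add, q4_add, q4_add, q4_smul, q4_smul, q4_smul, q4_smul, q4_psi h0 h1 h2 h3, q4_psi h0 h1 h2 h3]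

/-- the pairs -/
theorem mem_prs {cmb : List Q4} (hC : ckC P0 P1 P2 P3 cmb = true) {w : WW} (hw : ∀ x, rr w (psi P x) = psi P (rr w x)) :
    (q4 (rr w (vc α)), q4 (rr w (vc β))) ∈ prs P0 P1 P2 P3 cmb := by
  have hα : Rt (vc α) := isR_q4.1 (by decide +kernel)
  have hβ : Rt (vc β) := isR_q4.1 (by decide +kernel)
  unfold prs
  rw [List.mem_flatMap]
  refine ⟨(q4 (rr w (vc α)), ps P0 P1 P2 P3 (q4 (rr w (vc α)))), List.mem_map.2 ⟨_, mem_RL.1 (hα.act w), rfl⟩, ?_⟩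
  rw [List.mem_map]
  refine ⟨(q4 (rr w (vc β)), ps P0 P1 P2 P3 (q4 (rr w (vc β)))), ?_, rfl⟩
  rw [List.mem_filter]
  refine ⟨List.mem_map.2 ⟨_, mem_RL.1 (hβ.act w), rfl⟩, ?_⟩
  refine List.all_eq_true.2 fun c hc => ?_
  have h4 := List.all_eq_true.1 hC c hc
  rw [← q4_vc α, ← q4_vc β, ← q4_lc h0 h1 h2 h3, isR_q4] at h4
  have h5 := h4.act w
  rw [map_add, map_add, map_add, map_smul, map_smul, map_smul, map_smul, hw, hw, ← isR_q4, q4_lc h0 h1 h2 h3] at h5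
  exact h5

/-- elements with the same images of `α`, `β` -/
theorem eq_of_prs {U0 U1 U2 U3 : Q4} (hU : ckU P0 P1 P2 P3 U0 U1 U2 U3 = true) {w w' : WW}
    (hw : ∀ x, rr w (psi P x) = psi P (rr w x)) (hw' : ∀ x, rr w' (psi P x) = psi P (rr w' x))
    (hα : rr w (vc α) = rr w' (vc α)) (hβ : rr w (vc β) = rr w' (vc β)) (x : Fin 4 → ℤ) : rr w x = rr w' x := by
  unfold ckU at hU
  simp only [Bool.and_eq_true, eqb_iff] at hU
  obtain ⟨⟨⟨u0, u1⟩, u2⟩, u3⟩ := hU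
  have key : ∀ (U : Q4) (z : Fin 4 → ℤ), lc P0 P1 P2 P3 α β U = q4 z → rr w z = rr w' z := by
    intro U z hz
    rw [← q4_vc α, ← q4_vc β, ← q4_lc h0 h1 h2 h3] at hz
    rw [← q4_inj hz, map_add, map_add, map_add, map_smul, map_smul, map_smul, map_smul, map_add, map_add, map_add,
      map_smul, map_smul, map_smul, map_smul, hw, hw, hw', hw', hα, hβ]
  have h4 : rr w = rr w' := by
    refine LinearMap.pi_ext' fun i => LinearMap.ext_ring ?_
    fin_cases i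
    · exact key U0 _ u0
    · exact key U1 _ u1
    · exact key U2 _ u2
    · exact key U3 _ u3
  rw [h4]

/-- **At most 96 elements.** -/
theorem exists_fin {cmb : List Q4} (hC : ckC P0 P1 P2 P3 cmb = true) (hN : ckN P0 P1 P2 P3 cmb = true)
    {U0 U1 U2 U3 : Q4} (hU : ckU P0 P1 P2 P3 U0 U1 U2 U3 = true) :
    ∃ F : WW → Fin 96, ∀ w w' : WW, (∀ x, rr w (psi P x) = psi P (rr w x)) → (∀ x, rr w' (psi P x) = psi P (rr w' x)) →
      F w = F w' → ∀ x, rr w x = rr w' x := by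
  classical
  have h4 : (prs P0 P1 P2 P3 cmb).toFinset.card ≤ 96 := (List.toFinset_card_le _).trans (of_decide_eq_true hN)
  have h5 : Nonempty (↥(prs P0 P1 P2 P3 cmb).toFinset ↪ Fin 96) := by
    apply Function.Embedding.nonempty_of_card_le
    rw [Fintype.card_coe, Fintype.card_fin]
    exact h4
  obtain ⟨f⟩ := h5
  refine ⟨fun w => if h : (q4 (rr w (vc α)), q4 (rr w (vc β))) ∈ (prs P0 P1 P2 P3 cmb).toFinset then f ⟨_, h⟩ else 0, ?_⟩
  intro w w' hw hw' he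
  have h6 : (q4 (rr w (vc α)), q4 (rr w (vc β))) ∈ (prs P0 P1 P2 P3 cmb).toFinset :=
    List.mem_toFinset.2 (mem_prs h0 h1 h2 h3 hC hw)
  have h7 : (q4 (rr w' (vc α)), q4 (rr w' (vc β))) ∈ (prs P0 P1 P2 P3 cmb).toFinset :=
    List.mem_toFinset.2 (mem_prs h0 h1 h2 h3 hC hw')
  beta_reduce at he
  rw [dif_pos h6, dif_pos h7] at he
  have h8 := congrArg Subtype.val (f.injective he)
  have h9 : q4 (rr w (vc α)) = q4 (rr w' (vc α)) := congrArg Prod.fst h8
  have h10 : q4 (rr w (vc β)) = q4 (rr w' (vc β)) := congrArg Prod.snd h8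
  exact eq_of_prs h0 h1 h2 h3 hU hw hw' (q4_inj h9) (q4_inj h10)

end Cfsg.Agent.H97.XR.TwFRoots
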