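import Cfsg.Agent.H97.XR.TwFAlg
import Cfsg.Agent.H97.XR.TwFRoots

/-!
# The normalizer of a Sylow subgroup of rank 2 in a subgroup of the algebraic group of type `F₄` (helper97, S4791 + S4927)

`ED` : an embedding `e₁` of `G` in the algebraic group, `e₁ x`, `e₁ y` in the torus with values `u ^ La Lx`, `u ^ La Ly`.

* `ED.reg` : the centralizers of regular elements;
* `ED.comm_of_pow` : the centralizers of `x ^ b` and `x`;
* `ED.fus` : the fusion of `x ^ b`;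
* `ED.exists_fin` : at most 96 classes of the normalizer of `⟨x, y⟩` modulo the centralizer.
-/

set_option autoImplicit false
set_option linter.unusedSectionVars false

namespace Cfsg.Agent.H97.XR.TwFGrp

open CoxeterSystem Cfsg Cfsg.Lie Cfsg.Lie.ChevalleyDatum
open Cfsg.Agent.ChevalleyStructure Cfsg.Agent.ChevalleyStructure.Elts Cfsg.Agent.ChevalleyStructure.CoxeterGeom
  Cfsg.Agent.ChevalleyStructure.CoxeterGeomTypes Cfsg.Agent.ChevalleyStructure.NPerm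
open Cfsg.Agent.Tits.Roots Cfsg.Agent.Tits.Core Cfsg.Agent.Nodes Cfsg.Agent.Nodes.Reps Cfsg.Agent.Nodes.BNOf
  Cfsg.Agent.Nodes.RGDChev Cfsg.Agent.Nodes.Bruhat Cfsg.Agent.Nodes.SubComb Cfsg.Agent.Nodes.Coroot
open Cfsg.Agent.KFacts.RgdField Cfsg.Agent.KFacts.RgdChevCoord Cfsg.Agent.BpExc.TorCent Cfsg.Agent.BpExc.TorChev
open Cfsg.Agent.GpExc.Field Cfsg.Agent.BpExc.Tow Cfsg.Agent.BpExc.TowChev
  Cfsg.Agent.BpExc.LangFr Cfsg.Agent.BpExc Cfsg.Agent.H129.TorusChar Cfsg.Agent.H129.TorusUntw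
open Cfsg.Agent.H493.F4End Cfsg.Agent.H493.F4Tor Cfsg.Agent.H129 Cfsg.Agent.H129.SuzT
open Cfsg.Agent.H97.XR.TwFAlg Cfsg.Agent.H97.XR.TwFRoots Cfsg.Agent.H97.XR.TwFChk

universe u

local notation "WW" => CoxeterMatrix.F₄.Group
local notation "rr" => rep CoxeterMatrix.F₄.toCoxeterSystem hp.isCartan
local notation "Rt" => IsRoot CoxeterMatrix.F₄.toCoxeterSystem hp.isCartan

variable {k : Type u} [Field k] [CharP k 2] {G : Type*} [Group G]

/-- the data -/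
structure ED (N : ℕ) (Lx Ly : Fin 4 → ℤ) (e₁ : G →* ↥(chevF4.group k)) (x y : G) (u : k) : Prop where
  inj : Function.Injective e₁
  hs : e₁ x ∈ TT chevF4 k
  ht : e₁ y ∈ TT chevF4 k
  hu : IsPrimitiveRoot u N
  hcs : ∀ a, cX hp (e₁ x) a = u ^ La Lx a
  hct : ∀ a, cX hp (e₁ y) a = u ^ La Ly a

namespace ED

variable {N : ℕ} {Lx Ly : Fin 4 → ℤ} {e₁ : G →* ↥(chevF4.group k)} {x y : G} {u : k} (X : ED N Lx Ly e₁ x y u)
  (hN0 : N ≠ 0)

include X

theorem one_iff (z : ℤ) : u ^ z = 1 ↔ (N : ℤ) ∣ z := X.hu.zpow_eq_one_iff_dvd z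

include hN0 in
theorem u_ne : u ≠ 0 := X.hu.ne_zero hN0

include hN0 in
theorem eq_iff (a b : ℤ) : u ^ a = u ^ b ↔ (N : ℤ) ∣ a - b := by
  rw [← X.one_iff, zpow_sub₀ (X.u_ne hN0), div_eq_one_iff_eq (zpow_ne_zero _ (X.u_ne hN0))]

theorem mem_TT (i j : ℕ) : e₁ (x ^ i * y ^ j) ∈ TT chevF4 k := by
  rw [map_mul, map_pow, map_pow]
  exact mul_mem (pow_mem X.hs i) (pow_mem X.ht j)

include hN0 in
theorem cX_pow2 (i j : ℕ) (a : Fin 4 → ℤ) : cX hp (e₁ (x ^ i * y ^ j)) a = u ^ (i * La Lx a + j * La Ly a) := by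
  rw [map_mul, map_pow, map_pow, cX_mul hp (pow_mem X.hs i) (pow_mem X.ht j), cX_pow hp X.hs, cX_pow hp X.ht, X.hcs,
    X.hct, ← zpow_natCast, ← zpow_natCast, ← zpow_mul, ← zpow_mul, ← zpow_add₀ (X.u_ne hN0), mul_comm, mul_comm (La Ly a)]

theorem comm_of_mem {g : G} (hg : e₁ g ∈ TT chevF4 k) : g * x = x * g ∧ g * y = y * g := by
  refine ⟨X.inj ?_, X.inj ?_⟩
  · rw [map_mul, map_mul]
    exact TT_comm hp (K := k) _ hg _ X.hs
  · rw [map_mul, map_mul]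
    exact TT_comm hp (K := k) _ hg _ X.ht

variable [Finite WW] (hk : LocFin k) {p b : ℕ} (hp' : p.Prime) (hpW : ¬ p ∣ Nat.card WW)

include hN0 hk hp' hpW

/-- **The centralizers of regular elements.** -/
theorem reg (hN : N = p ^ b) {i j : ℕ} (h : ∀ a, Rt a → ¬ (N : ℤ) ∣ i * La Lx a + j * La Ly a) {g : G}
    (hg : g * (x ^ i * y ^ j) = x ^ i * y ^ j * g) : g * x = x * g ∧ g * y = y * g := by
  have : Fact (Nat.Prime 2) := ⟨Nat.prime_two⟩
  refine X.comm_of_mem ?_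
  refine mem_TT_of_reg hp CoxeterMatrix.F₄.toCoxeterSystem hk 2 (X.mem_TT i j) hp' hpW (b := b) (fun a _ => ?_) (fun a ha => ?_) ?_
  · rw [X.cX_pow2 hN0, ← zpow_natCast, ← zpow_mul, X.one_iff, ← hN]
    exact dvd_mul_left _ _
  · rw [X.cX_pow2 hN0, Ne, X.one_iff]
    exact h a ha
  · rw [← map_mul, hg, map_mul]

/-- **The centralizers of `x ^ c` and `x`.** -/
theorem comm_of_pow' {c : ℕ} (hN : N = c * p) (h : ∀ a, Rt a → (N : ℤ) ∣ c * La Lx a → (N : ℤ) ∣ La Lx a) {g : G}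
    (hg : g * x ^ c = x ^ c * g) : g * x = x * g := by
  have : Fact (Nat.Prime 2) := ⟨Nat.prime_two⟩
  apply X.inj
  rw [map_mul, map_mul]
  refine TwFAlg.comm_of_pow hp CoxeterMatrix.F₄.toCoxeterSystem hk 2 X.hs hp' hpW (b := c) (fun a _ => ?_) (fun a ha h1 => ?_) ?_
  · rw [X.hcs, ← zpow_natCast, ← zpow_mul, X.one_iff, ← hN]
    exact dvd_mul_left _ _
  · rw [X.hcs, ← zpow_natCast, ← zpow_mul, X.one_iff, mul_comm] at h1
    rw [X.hcs, X.one_iff]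
    exact h a ha h1
  · rw [← map_pow, ← map_mul, hg, map_mul]

/-- **Simultaneous fusion.** -/
theorem exists_w (hN : N = p ^ b) {i j : ℕ} (h : ∀ a, Rt a → ¬ (N : ℤ) ∣ i * La Lx a + j * La Ly a) {g : G}
    (hg : e₁ (g * (x ^ i * y ^ j) * g⁻¹) ∈ TT chevF4 k) : ∃ w : WW, ∀ s ∈ TT chevF4 k, e₁ g * s * (e₁ g)⁻¹ ∈ TT chevF4 k ∧
      ∀ a, cX hp (e₁ g * s * (e₁ g)⁻¹) (rr w a) = cX hp s a := by
  have : Fact (Nat.Prime 2) := ⟨Nat.prime_two⟩
  refine exists_w_reg hp CoxeterMatrix.F₄.toCoxeterSystem hk 2 (X.mem_TT i j) hg hp' hpW (b := b) (fun a _ => ?_) (fun a ha => ?_) ?_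
  · rw [X.cX_pow2 hN0, ← zpow_natCast, ← zpow_mul, X.one_iff, ← hN]
    exact dvd_mul_left _ _
  · rw [X.cX_pow2 hN0, Ne, X.one_iff]
    exact h a ha
  · rw [map_mul e₁ (g * (x ^ i * y ^ j)) g⁻¹, map_mul e₁ g, map_inv]

omit hk hp' hpW in
/-- the subgroup with eigenvalue `v` -/
theorem closure_eig {P : Fin 4 → Fin 4 → ℤ} {v : ℤ} (hx : ∀ a, (N : ℤ) ∣ La Lx (psi P a) - v * La Lx a)
    (hy : ∀ a, (N : ℤ) ∣ La Ly (psi P a) - v * La Ly a) {z : G} (hz : z ∈ Subgroup.closure {x, y}) :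
    e₁ z ∈ TT chevF4 k ∧ ∀ a, cX hp (e₁ z) (psi P a) = cX hp (e₁ z) a ^ v := by
  let E : Subgroup G :=
    { carrier := {z | e₁ z ∈ TT chevF4 k ∧ ∀ a, cX hp (e₁ z) (psi P a) = cX hp (e₁ z) a ^ v}
      one_mem' := by
        refine ⟨by rw [map_one]; exact one_mem _, fun a => ?_⟩
        rw [map_one, cX_one, cX_one, one_zpow]
      mul_mem' := by
        rintro z z' ⟨h1, h2⟩ ⟨h3, h4⟩
        refine ⟨by rw [map_mul]; exact mul_mem h1 h3, fun a => ?_⟩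
        rw [map_mul, cX_mul hp h1 h3, cX_mul hp h1 h3, h2, h4, mul_zpow]
      inv_mem' := by
        rintro z ⟨h1, h2⟩
        have h3 : e₁ z⁻¹ ∈ TT chevF4 k := by rw [map_inv]; exact inv_mem h1
        have h4 : ∀ a, cX hp (e₁ z⁻¹) a = (cX hp (e₁ z) a)⁻¹ := by
          intro a
          have h5 := cX_mul hp h3 h1 a
          rw [← map_mul, inv_mul_cancel, map_one, cX_one] at h5
          exact eq_inv_of_mul_eq_one_left h5.symm
        refine ⟨h3, fun a => ?_⟩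
        rw [h4, h4, h2, inv_zpow] }
  have h1 : Subgroup.closure {x, y} ≤ E := by
    rw [Subgroup.closure_le]
    rintro z (rfl | rfl)
    · refine ⟨X.hs, fun a => ?_⟩
      rw [X.hcs, X.hcs, ← zpow_mul, X.eq_iff hN0, mul_comm (La Lx a)]
      exact hx a
    · refine ⟨X.ht, fun a => ?_⟩
      rw [X.hct, X.hct, ← zpow_mul, X.eq_iff hN0, mul_comm (La Ly a)]
      exact hy a
  exact h1 hz

/-- **At most 96 classes of the normalizer modulo the centralizer.** -/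
theorem exists_fin (hN : N = p ^ b) (hb : b ≠ 0) {i j : ℕ} (h : ∀ a, Rt a → ¬ (N : ℤ) ∣ i * La Lx a + j * La Ly a)
    {P : Fin 4 → Fin 4 → ℤ} {v : ℤ} (hx : ∀ a, (N : ℤ) ∣ La Lx (psi P a) - v * La Lx a)
    (hy : ∀ a, (N : ℤ) ∣ La Ly (psi P a) - v * La Ly a)
    (hcomm : ∀ w : WW, (∀ a, Rt a → (p : ℤ) ∣ La Lx (rr w (psi P a) - psi P (rr w a)) ∧
      (p : ℤ) ∣ La Ly (rr w (psi P a) - psi P (rr w a))) → ∀ x, rr w (psi P x) = psi P (rr w x))
    (hfin : ∃ F : WW → Fin 96, ∀ w w' : WW, (∀ x, rr w (psi P x) = psi P (rr w x)) →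
      (∀ x, rr w' (psi P x) = psi P (rr w' x)) → F w = F w' → ∀ x, rr w x = rr w' x) :
    ∃ F : G → Fin 96, ∀ g g' : G, g ∈ Subgroup.normalizer ((Subgroup.closure {x, y} : Subgroup G) : Set G) →
      g' ∈ Subgroup.normalizer ((Subgroup.closure {x, y} : Subgroup G) : Set G) → F g = F g' →
      g⁻¹ * g' ∈ Subgroup.centralizer ((Subgroup.closure {x, y} : Subgroup G) : Set G) := by
  classical
  have hx1 : x ∈ Subgroup.closure {x, y} := Subgroup.subset_closure (Or.inl rfl)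
  have hy1 : y ∈ Subgroup.closure {x, y} := Subgroup.subset_closure (Or.inr rfl)
  have hpN : (p : ℤ) ∣ N := by
    rw [hN]
    push_cast
    exact dvd_pow_self _ hb
  have key : ∀ g ∈ Subgroup.normalizer ((Subgroup.closure {x, y} : Subgroup G) : Set G), ∃ w : WW,
      (∀ a, rr w (psi P a) = psi P (rr w a)) ∧ ∀ z ∈ Subgroup.closure {x, y}, ∀ a,
        cX hp (e₁ (g * z * g⁻¹)) (rr w a) = cX hp (e₁ z) a := by
    intro g hg
    have h1 : ∀ z ∈ Subgroup.closure {x, y}, g * z * g⁻¹ ∈ Subgroup.closure {x, y} := fun z hz =>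
      (Subgroup.mem_normalizer_iff.1 hg z).1 hz
    have h2 : ∀ z ∈ Subgroup.closure {x, y}, g⁻¹ * z * g ∈ Subgroup.closure {x, y} := by
      intro z hz
      have h3 := (Subgroup.mem_normalizer_iff.1 (inv_mem hg) z).1 hz
      rwa [inv_inv] at h3
    have h3 := (X.closure_eig hN0 hx hy (h1 _ (mul_mem (pow_mem hx1 i) (pow_mem hy1 j)))).1
    obtain ⟨w, hw⟩ := X.exists_w hN0 hk hp' hpW hN h h3
    have hw1 : ∀ z ∈ Subgroup.closure {x, y}, ∀ a, cX hp (e₁ (g * z * g⁻¹)) (rr w a) = cX hp (e₁ z) a := by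
      intro z hz a
      rw [map_mul, map_mul, map_inv]
      exact (hw _ (X.closure_eig hN0 hx hy hz).1).2 a
    have hw2 : ∀ z ∈ Subgroup.closure {x, y}, ∀ a, cX hp (e₁ z) (rr w (psi P a)) = cX hp (e₁ z) (psi P (rr w a)) := by
      intro z hz a
      have h4 := h2 z hz
      have h5 := hw1 _ h4
      have h6 : g * (g⁻¹ * z * g) * g⁻¹ = z := by group
      rw [h6] at h5
      rw [h5, (X.closure_eig hN0 hx hy h4).2, (X.closure_eig hN0 hx hy hz).2, h5]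
    refine ⟨w, hcomm w fun a _ => ⟨?_, ?_⟩, hw1⟩
    · have h4 := hw2 x hx1 a
      rw [X.hcs, X.hcs, X.eq_iff hN0, ← La_sub] at h4
      exact hpN.trans h4
    · have h4 := hw2 y hy1 a
      rw [X.hct, X.hct, X.eq_iff hN0, ← La_sub] at h4
      exact hpN.trans h4
  obtain ⟨F, hF⟩ := hfin
  choose! W hW1 hW2 using key
  refine ⟨fun g => F (W g), fun g g' hg hg' he => ?_⟩
  have h1 := hF _ _ (hW1 g hg) (hW1 g' hg') he
  have h2 : ∀ z ∈ Subgroup.closure {x, y}, g * z * g⁻¹ = g' * z * g'⁻¹ := by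
    intro z hz
    apply X.inj
    have h3 := (X.closure_eig hN0 hx hy ((Subgroup.mem_normalizer_iff.1 hg z).1 hz)).1
    have h4 := (X.closure_eig hN0 hx hy ((Subgroup.mem_normalizer_iff.1 hg' z).1 hz)).1
    refine cX_inj hp h3 h4 fun i => ?_
    have h8 : sr i = rr (W g) (rr (W g)⁻¹ (sr i)) := by
      rw [← Module.End.mul_apply, ← map_mul, mul_inv_cancel, map_one, Module.End.one_apply]
    rw [h8, hW2 g hg z hz]
    rw [h1, hW2 g' hg' z hz]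
  rw [Subgroup.mem_centralizer_iff]
  intro z hz
  have h3 := h2 z hz
  calc z * (g⁻¹ * g') = g⁻¹ * (g * z * g⁻¹) * g' := by group
    _ = g⁻¹ * (g' * z * g'⁻¹) * g' := by rw [h3]
    _ = g⁻¹ * g' * z := by group

omit hp' hpW in
/-- **The fusion of `x ^ c`.** -/
theorem fus [IsAlgClosed k] (c i : ℕ) {g : G} (hg : g * x ^ c * g⁻¹ = (x ^ c) ^ i) :
    ∃ w : WW, ∀ a, (N : ℤ) ∣ c * (i * La Lx (rr w a) - La Lx a) := by
  have h1 : e₁ g * e₁ (x ^ c) * (e₁ g)⁻¹ = e₁ ((x ^ c) ^ i) := by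
    rw [← hg, map_mul, map_mul, map_inv]
  have h2 : e₁ (x ^ c) ∈ TT chevF4 k := by rw [map_pow]; exact pow_mem X.hs c
  have h3 : e₁ ((x ^ c) ^ i) ∈ TT chevF4 k := by rw [map_pow]; exact pow_mem h2 i
  obtain ⟨w, hw⟩ := Cfsg.Agent.H97.KB.TwFTor.exists_w CoxeterMatrix.F₄.toCoxeterSystem hk h2 h3 h1
  refine ⟨w, fun a => ?_⟩
  have h4 := hw a
  rw [map_pow e₁ (x ^ c) i, cX_pow hp h2, map_pow e₁ x c, cX_pow hp X.hs, cX_pow hp X.hs, X.hcs, X.hcs, ← zpow_natCast,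
    ← zpow_natCast, ← zpow_natCast, ← zpow_mul, ← zpow_mul, ← zpow_mul, X.eq_iff hN0] at h4
  have e : (c : ℤ) * (i * La Lx (rr w a) - La Lx a) = La Lx (rr w a) * (c * i) - La Lx a * c := by ring
  rw [e]
  exact h4

end ED

end Cfsg.Agent.H97.XR.TwFGrp
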